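import Groth.Agent.AVIndex.Concentration
import Groth.Agent.AVTheta8.Degen
import Groth.Agent.CurveBC.Coh
import Groth.Agent.H23.BcComp
import Groth.Agent.FibDim.BaseField

/-!
# Concentrated modules over any field
-/

noncomputable section

set_option autoImplicit false
set_option linter.style.haveILetI false
set_option linter.unusedSectionVars false
set_option backward.isDefEq.respectTransparency false
set_option backward.isDefEq.respectTransparency.types false
set_option maxHeartbeats 1000000

universe u

open CategoryTheory CategoryTheory.Limits MonoidalCategory CartesianMonoidalCategory MonObj AlgebraicGeometry TopologicalSpace IsLocalRing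

namespace Groth.Agent.AVIndex

open Groth.Agent Groth.Agent.H23 Groth.Agent.AVDualCx
open scoped Groth.Agent.H23.PicMul

/-- Over an algebraically closed field a concentrated module is non-degenerate. -/
theorem finite_fixSet_of_concentrated {k : Type u} [Field k] [IsAlgClosed k] {A : Over (Spec (CommRingCat.of k))}
    [GrpObj A] [IsProper A.hom] [GeometricallyIntegral A.hom] {L : A.left.Modules} (hL : PicF.IsInvertible L) {i : ℕ}
    (hvan : ∀ j, j ≠ i → Subsingleton (Coh.HH A.left L j)) (hne : Nontrivial (Coh.HH A.left L i)) :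
    (fixSet₀ L).Finite := by
  letI : A.left.Over (Spec (CommRingCat.of k)) := ⟨A.hom⟩
  haveI : IsProper (A.left ↘ Spec (CommRingCat.of k)) := ‹IsProper A.hom›
  haveI := CurveCohLib.isNoetherian_of_proper (k := k) (X := A.left)
  haveI : Module.Finite k (Coh.HH A.left L i) := CurveCohLib.finite_HH (k := k) (AmpleVan.isCoh_invertible hL) i
  by_contra h
  have h0 : Curv2.euler k A.left L = 0 :=
    AVTheta8.euler_eq_zero_of_degenerate hL (Set.Infinite.mono (fun x hx => PicMul.cl_eq_iff.1 hx) h)
  rw [Euler.euler_eq_sum k L (i + 1) (fun j hj => hvan j (by omega)),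
    Finset.sum_eq_single i (fun j _ hj => by
      haveI := hvan j hj
      rw [Module.finrank_zero_of_subsingleton, Nat.cast_zero, mul_zero])
    (fun h => absurd (Finset.self_mem_range_succ i) h)] at h0
  rcases mul_eq_zero.1 h0 with h1 | h1
  · exact pow_ne_zero i (by norm_num : (-1 : ℤ) ≠ 0) h1
  · have h2 : Module.finrank k (Coh.HH A.left L i) = 0 := by exact_mod_cast h1
    haveI := Module.finrank_zero_iff.1 h2
    exact not_subsingleton (Coh.HH A.left L i) inferInstance

variable {k : Type u} [Field k] {X : Over (Spec (CommRingCat.of k))} [IsProper X.hom]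

/-- The spectrum of the algebraic closure. -/
abbrev clMap (k : Type u) [Field k] : Spec (CommRingCat.of (AlgebraicClosure k)) ⟶ Spec (CommRingCat.of k) :=
  Spec.map (CommRingCat.ofHom (algebraMap k (AlgebraicClosure k)))

/-- Vanishing of cohomology is insensitive to extending the field to its algebraic closure. -/
theorem subsingleton_HH_bar_iff {L : X.left.Modules} (hL : PicF.IsInvertible L) (j : ℕ) :
    Subsingleton (Coh.HH (Red.bc (clMap k) X).left
        ((Scheme.Modules.pullback (prj (clMap k) X)).obj L) j) ↔ Subsingleton (Coh.HH X.left L j) := by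
  let K := AlgebraicClosure k
  let t := clMap k
  let B : Over (Spec (CommRingCat.of K)) := Red.bc t X
  let π : B.left ⟶ X.left := prj t X
  have sq : IsPullback π B.hom X.hom t := IsPullback.of_hasPullback _ _
  haveI : IsProper B.hom := MorphismProperty.of_isPullback (P := @IsProper) sq inferInstance
  letI : X.left.Over (Spec (CommRingCat.of k)) := ⟨X.hom⟩
  letI : B.left.Over (Spec (CommRingCat.of K)) := ⟨B.hom⟩
  haveI : IsProper (X.left ↘ Spec (CommRingCat.of k)) := ‹IsProper X.hom›
  haveI : IsProper (B.left ↘ Spec (CommRingCat.of K)) := ‹IsProper B.hom›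
  haveI := CurveCohLib.isNoetherian_of_proper (k := k) (X := X.left)
  haveI := CurveCohLib.isNoetherian_of_proper (k := K) (X := B.left)
  have hc : Coh.IsCoh L := AmpleVan.isCoh_invertible hL
  have hc' : Coh.IsCoh ((Scheme.Modules.pullback π).obj L) :=
    AmpleVan.isCoh_invertible (PicClLib.isInvertible_pullback π hL)
  haveI : Module.Finite k (Coh.HH X.left L j) := CurveCohLib.finite_HH (k := k) hc j
  haveI : Module.Finite K (Coh.HH B.left ((Scheme.Modules.pullback π).obj L) j) :=
    CurveCohLib.finite_HH (k := K) hc' j
  have h := CurveBC.finrank_hh k K π sq L hc.1 j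
  rw [← Module.finrank_zero_iff (R := K), ← Module.finrank_zero_iff (R := k)]
  exact Eq.congr_left h

variable [GrpObj X] [GeometricallyIntegral X.hom]

/-- Base change to the algebraic closure preserves the dimension. -/
theorem dim_bar {g : ℕ} (hg : topologicalKrullDim X.left = g) :
    topologicalKrullDim (Red.bc (clMap k) X).left = g := by
  rw [← hg]
  haveI : IsProper (Red.bc (clMap k) X).hom := (BcComp.isAV_bc (clMap k) X).1
  haveI : Subsingleton ↥(Spec (CommRingCat.of k)) := inferInstanceAs (Subsingleton (PrimeSpectrum k))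
  haveI : Subsingleton ↥(Spec (CommRingCat.of (AlgebraicClosure k))) :=
    inferInstanceAs (Subsingleton (PrimeSpectrum (AlgebraicClosure k)))
  exact FibDim.topologicalKrullDim_baseChange (IsPullback.of_hasPullback X.hom (clMap k))

/-- **The index of the inverse.** -/
theorem concentrated_inverse {L L' : X.left.Modules} (hL : PicF.IsInvertible L) (hLL : PicF.cl L * PicF.cl L' = 1)
    {g : ℕ} (hg : topologicalKrullDim X.left = g) {i : ℕ} (hvan : ∀ j, j ≠ i → Subsingleton (Coh.HH X.left L j))
    (hne : Nontrivial (Coh.HH X.left L i)) :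
    i ≤ g ∧ (∀ j, j ≠ g - i → Subsingleton (Coh.HH X.left L' j)) ∧ Nontrivial (Coh.HH X.left L' (g - i)) := by
  haveI : IsProper (Red.bc (clMap k) X).hom := (BcComp.isAV_bc (clMap k) X).1
  haveI : GeometricallyIntegral (Red.bc (clMap k) X).hom := (BcComp.isAV_bc (clMap k) X).2
  let π := prj (clMap k) X
  have hLi : PicF.IsInvertible ((Scheme.Modules.pullback π).obj L) := PicClLib.isInvertible_pullback _ hL
  have hLL' : PicF.cl ((Scheme.Modules.pullback π).obj L) * PicF.cl ((Scheme.Modules.pullback π).obj L') = 1 := by
    show PicF.pullCl π (PicF.cl L) * PicF.pullCl π (PicF.cl L') = 1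
    rw [← PicMul.pullCl_mul, hLL, PicMul.pullCl_one]
  have hv : ∀ j, j ≠ i → Subsingleton (Coh.HH _ ((Scheme.Modules.pullback π).obj L) j) := fun j hj =>
    (subsingleton_HH_bar_iff hL j).2 (hvan j hj)
  have hn : Nontrivial (Coh.HH _ ((Scheme.Modules.pullback π).obj L) i) :=
    not_subsingleton_iff_nontrivial.1 fun h => not_subsingleton_iff_nontrivial.2 hne ((subsingleton_HH_bar_iff hL i).1 h)
  obtain ⟨i', hi', -, hn', h3, h4⟩ :=
    exists_index hLi hLL' (finite_fixSet_of_concentrated hLi hv hn) (dim_bar hg)
  obtain rfl : i' = i := by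
    by_contra hne'
    exact not_subsingleton_iff_nontrivial.2 hn' (hv i' hne')
  have hL'i := isInvertible_inverse hL hLL
  exact ⟨hi', fun j hj => (subsingleton_HH_bar_iff hL'i j).1 (h3 j hj),
    not_subsingleton_iff_nontrivial.1 fun h => not_subsingleton_iff_nontrivial.2 h4 ((subsingleton_HH_bar_iff hL'i _).2 h)⟩

end Groth.Agent.AVIndex
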