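import Groth.Agent.AVIndex.Powers
import Groth.Agent.AVTheta8.Stab

/-!
# Orthogonal complements of the diagonal
-/

noncomputable section

set_option autoImplicit false
set_option linter.style.haveILetI false
set_option linter.unusedSectionVars false
set_option backward.isDefEq.respectTransparency false
set_option backward.isDefEq.respectTransparency.types false
set_option maxHeartbeats 1000000

universe u

open CategoryTheory CategoryTheory.Limits MonoidalCategory CartesianMonoidalCategory MonObj AlgebraicGeometry TopologicalSpace IsLocalRing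

namespace Groth.Agent.AVIndex

open Groth.Agent Groth.Agent.H23 Groth.Agent.H23.TrivBasic Groth.Agent.AVCube Groth.Agent.AVPair Groth.Agent.AVDualCx Groth.Agent.AVTheta8
open scoped Groth.Agent.H23.PicMul

variable {k : Type u} [Field k] [IsAlgClosed k] {A B : Over (Spec (CommRingCat.of k))} [GrpObj A] [IsProper A.hom]
  [GeometricallyIntegral A.hom] [GrpObj B] [IsProper B.hom] [GeometricallyIntegral B.hom]

/-- A homomorphism with finite kernel to an abelian variety of at most the same dimension is an isogeny. -/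
theorem isogeny_of_finite_ker (f : A ⟶ B) [IsMonHom f]
    (hfin : Set.Finite {a : 𝟙_ (Over (Spec (CommRingCat.of k))) ⟶ A | a ≫ f = 1})
    (hdim : topologicalKrullDim B.left ≤ topologicalKrullDim A.left) :
    IsFinite f.left ∧ Flat f.left ∧ Surjective f.left := by
  haveI : IsIntegral A.left := GeometricallyIntegral.isIntegral_of_subsingleton A.hom
  haveI : IsIntegral B.left := GeometricallyIntegral.isIntegral_of_subsingleton B.hom
  haveI : IsProper f.left := by
    haveI : IsProper (f.left ≫ B.hom) := by rw [Over.w]; infer_instance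
    exact IsProper.of_comp f.left B.hom
  haveI : JacobsonSpace A.left := LocallyOfFiniteType.jacobsonSpace A.hom
  haveI : LocallyQuasiFinite f.left := AVAmple.locallyQuasiFinite_of_closed f.left fun q hq => by
    have hclosed : IsClosed (f.left ⁻¹' {q}) := hq.preimage f.left.continuous
    have hpts : (f.left ⁻¹' {q} ∩ closedPoints A.left).Finite := by
      rcases (f.left ⁻¹' {q} ∩ closedPoints A.left).eq_empty_or_nonempty with he | ⟨x₀, hx₀, hx₀c⟩
      · rw [he]; exact Set.finite_empty
      obtain ⟨a₀, rfl⟩ := AVAmple.exists_pt (mem_closedPoints_iff.1 hx₀c)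
      refine ((hfin.image (a₀ * ·)).image AVAmple.pt).subset ?_
      rintro x ⟨hx, hxc⟩
      obtain ⟨a, rfl⟩ := AVAmple.exists_pt (mem_closedPoints_iff.1 hxc)
      have he : a ≫ f = a₀ ≫ f := AVTheta8.pt_injective (show f.left (AVAmple.pt a) = f.left (AVAmple.pt a₀) from hx.trans hx₀.symm)
      exact ⟨a, ⟨a₀⁻¹ * a, by
        show (a₀⁻¹ * a) ≫ f = 1
        rw [MonObj.mul_comp, GrpObj.inv_comp, he, inv_mul_cancel], mul_inv_cancel_left _ _⟩, rfl⟩
    have hcl : IsClosed (f.left ⁻¹' {q} ∩ closedPoints A.left) := by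
      rw [← Set.biUnion_of_singleton (_ ∩ closedPoints A.left)]
      exact hpts.isClosed_biUnion fun y hy => mem_closedPoints_iff.1 hy.2
    have hsub : f.left ⁻¹' {q} ⊆ f.left ⁻¹' {q} ∩ closedPoints A.left := fun y hy => by
      by_contra hn
      obtain ⟨z, ⟨hz, hz'⟩, hzc⟩ := nonempty_inter_closedPoints
        (Z := f.left ⁻¹' {q} ∩ (f.left ⁻¹' {q} ∩ closedPoints A.left)ᶜ) ⟨y, hy, hn⟩
        (hclosed.isLocallyClosed.inter hcl.isOpen_compl.isLocallyClosed)
      exact hz' ⟨hz, hzc⟩
    exact hpts.subset hsub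
  haveI : IsFinite f.left := IsFinite.of_isProper_of_locallyQuasiFinite f.left
  obtain ⟨x⟩ : Nonempty A.left := inferInstance
  haveI : Nonempty (f.left.fiber (f.left x)) := ⟨f.left.asFiber x⟩
  haveI : Finite (f.left.fiber (f.left x)) := inferInstance
  haveI : DiscreteTopology (f.left.fiber (f.left x)) := inferInstance
  haveI : Surjective f.left := (FibreZero.surjective_and_dim_eq A.hom B.hom hdim f.left (Over.w f) (f.left x)
    (le_antisymm (topologicalKrullDim_zero_of_discreteTopology _)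
      (@Order.krullDim_nonneg _ _ ⟨⟨closure {f.left.asFiber x}, isIrreducible_singleton.closure, isClosed_closure⟩⟩))).1
  exact ⟨inferInstance, GrpSchLib.flat_of_surjective_hom f, inferInstance⟩

/-- The points whose translation difference dies on `A` form a closed set. -/
theorem exists_closed_ker (α : A ⟶ B) [IsMonHom α] {L : B.left.Modules} (hL : PicF.IsInvertible L) :
    ∃ S : Set B.left, IsClosed S ∧ ∀ b : 𝟙_ (Over (Spec (CommRingCat.of k))) ⟶ B, AVAmple.pt b ∈ S ↔
      Units.map (PicMul.pullHom α.left : PicF.Cl B.left →* PicF.Cl A.left) (delta hL b) = 1 := by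
  haveI : IsLocallyNoetherian B.left := LocallyOfFiniteType.isLocallyNoetherian B.hom
  let u : (PicF.Cl (A ⊗ B).left)ˣ :=
    pc hL ((fst A B ≫ α) * snd A B) / (pc hL (fst A B ≫ α) * pc hL (snd A B))
  have inv (f : A ⊗ B ⟶ B) : PicF.IsInvertibleCl (pc hL f : PicF.Cl (A ⊗ B).left) :=
    PicClLib.isInvertibleCl_pullCl f.left ⟨L, rfl, hL⟩
  obtain ⟨M, hMcl, hM⟩ : PicF.IsInvertibleCl (u : PicF.Cl (A ⊗ B).left) := by
    simp only [u, div_eq_mul_inv, mul_inv, Units.val_mul]
    repeat' apply PicMul.isInvertibleCl_mul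
    all_goals first | exact inv _ | exact isInvertibleCl_units (inv _)
  have hcl : ∀ b, PicF.cl ((Scheme.Modules.pullback (lift (𝟙 A) (toUnit A ≫ b)).left).obj M) =
      ((Units.map (PicMul.pullHom α.left : PicF.Cl B.left →* PicF.Cl A.left) (delta hL b) : (PicF.Cl A.left)ˣ) :
        PicF.Cl A.left) := fun b => by
    show PicMul.pullHom (lift (𝟙 A) (toUnit A ≫ b)).left (PicF.cl M) = _
    rw [hMcl, F_units _ u]
    simp only [u, delta, map_div, map_mul, pull_pc, MonObj.comp_mul, lift_fst_assoc, lift_snd, Category.id_comp,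
      Category.comp_id, AVTheta8.pc_const hL, _root_.mul_one]
    congr 3
    simp only [CubeAb.tr, MonObj.comp_mul, Category.comp_id, ← Category.assoc]
    rw [toUnit_unique (α ≫ toUnit B) (toUnit A)]
  let f := (snd A B).left
  haveI : IsProper f := inferInstanceAs (IsProper (pullback.snd A.hom B.hom))
  haveI : Flat f := inferInstanceAs (Flat (pullback.snd A.hom B.hom))
  haveI : GeometricallyIntegral f := inferInstanceAs (GeometricallyIntegral (pullback.snd A.hom B.hom))
  refine ⟨{w | SeesawGlobal.FieldTriv f M w}, SeesawGlobal.isClosed_fieldTriv f hM, fun b => ⟨fun hb => ?_, fun hb => ?_⟩⟩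
  · have ht : Triv ((Scheme.Modules.pullback (lift (𝟙 A) (toUnit A ≫ b)).left).obj M) := by
      refine SeesawGlobal.triv_of_factor
        (pullback.lift (lift (𝟙 A) (toUnit A ≫ b)).left A.hom ?_ : A.left ⟶ pullback f b.left) ?_ (hb k b.left rfl)
      · show _ ≫ (snd A B).left = _
        rw [← Over.comp_left, lift_snd, Over.comp_left]
        rfl
      · rw [pullback.lift_fst]
    exact Units.ext ((hcl b).symm.trans ((CubeAb.cl_eq_one_iff _).2 ht))
  · refine SeesawGlobal.fieldTriv_of_point f hM k (b.left : Spec (CommRingCat.of k) ⟶ B.left) rfl ?_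
    refine SeesawGlobal.triv_of_factor (pullback.fst f b.left ≫ (fst A B).left) ?_
      ((CubeAb.cl_eq_one_iff ((Scheme.Modules.pullback (lift (𝟙 A) (toUnit A ≫ b)).left).obj M)).1
        (by rw [hcl, hb]; rfl))
    have h1 : (lift (𝟙 A) (toUnit A ≫ b)).left ≫ (fst A B).left = 𝟙 _ := by
      rw [← Over.comp_left, lift_fst]; rfl
    have h2 : (lift (𝟙 A) (toUnit A ≫ b)).left ≫ (snd A B).left = (toUnit A).left ≫ b.left := by
      rw [← Over.comp_left, lift_snd, Over.comp_left]
    apply pullback.hom_ext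
    · show (_ ≫ (lift (𝟙 A) (toUnit A ≫ b)).left) ≫ (fst A B).left = pullback.fst _ _ ≫ (fst A B).left
      rw [Category.assoc, h1, Category.comp_id]
    · show (_ ≫ (lift (𝟙 A) (toUnit A ≫ b)).left) ≫ (snd A B).left = pullback.fst _ _ ≫ (snd A B).left
      rw [Category.assoc, h2, pullback.condition, ← Category.assoc]
      congr 1
      have hu : (toUnit A).left = A.hom := rfl
      have e1 : (snd A B).left ≫ B.hom = (fst A B).left ≫ A.hom := (Over.w (snd A B)).trans (Over.w (fst A B)).symm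
      rw [hu, Category.assoc, ← e1, ← Category.assoc, pullback.condition, Category.assoc, Over.w b]
      exact Category.comp_id _

omit [IsProper B.hom] [GeometricallyIntegral B.hom] in
/-- Products with isogenous factors have the same dimension. -/
theorem dim_tensor_eq {C : Over (Spec (CommRingCat.of k))} [IsProper C.hom] [GeometricallyIntegral C.hom]
    (ψ : C ⟶ A) [IsFinite ψ.left] [Surjective ψ.left] :
    topologicalKrullDim (A ⊗ C).left = topologicalKrullDim (A ⊗ A).left := by
  have sq : IsPullback (A ◁ ψ).left (snd A C).left (snd A A).left ψ.left := by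
    refine IsPullback.of_right (h₁₂ := (fst A A).left) (v₁₃ := A.hom) (h₂₂ := A.hom) ?_ ?_
      (IsPullback.of_hasPullback A.hom A.hom)
    · rw [← Over.comp_left, whiskerLeft_fst, Over.w]
      exact IsPullback.of_hasPullback A.hom C.hom
    · rw [← Over.comp_left, whiskerLeft_snd, Over.comp_left]
  haveI : IsProper (A ⊗ C).hom := inferInstanceAs (IsProper (pullback.fst A.hom C.hom ≫ A.hom))
  haveI : IsLocallyNoetherian (A ⊗ C).left := LocallyOfFiniteType.isLocallyNoetherian (A ⊗ C).hom
  haveI : IsProper (A ⊗ A).hom := inferInstanceAs (IsProper (pullback.fst A.hom A.hom ≫ A.hom))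
  haveI : IsLocallyNoetherian (A ⊗ A).left := LocallyOfFiniteType.isLocallyNoetherian (A ⊗ A).hom
  haveI : IsFinite (A ◁ ψ).left := MorphismProperty.of_isPullback (P := @IsFinite) sq.flip inferInstance
  haveI : Surjective (A ◁ ψ).left := MorphismProperty.of_isPullback (P := @Surjective) sq.flip inferInstance
  exact (S4717.result (A ◁ ψ).left).2 (A ◁ ψ).left.surjective

/-- A class whose differences along `C` die on `A` splits on `A × C`. -/
theorem cross_split {C : Over (Spec (CommRingCat.of k))} [GrpObj C] [IsProper C.hom] [GeometricallyIntegral C.hom]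
    (α : A ⟶ B) [IsMonHom α] (j : C ⟶ B) [IsMonHom j] {L : B.left.Modules} (hL : PicF.IsInvertible L)
    (hj : ∀ y, Units.map (PicMul.pullHom α.left : PicF.Cl B.left →* PicF.Cl A.left) (delta hL (y ≫ j)) = 1) :
    pc hL ((fst A C ≫ α) * (snd A C ≫ j)) = pc hL (fst A C ≫ α) * pc hL (snd A C ≫ j) := by
  haveI : IsIntegral C.left := GeometricallyIntegral.isIntegral_of_subsingleton C.hom
  haveI : IsCommMonObj B := isCommMonObj_of_isProper_of_geometricallyIntegral B
  let u : (PicF.Cl (A ⊗ C).left)ˣ :=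
    pc hL ((fst A C ≫ α) * (snd A C ≫ j)) / (pc hL (fst A C ≫ α) * pc hL (snd A C ≫ j))
  suffices hu : u = 1 from div_eq_one.1 hu
  have inv (h : A ⊗ C ⟶ B) : PicF.IsInvertibleCl (pc hL h : PicF.Cl (A ⊗ C).left) :=
    PicClLib.isInvertibleCl_pullCl h.left ⟨L, rfl, hL⟩
  obtain ⟨M, hMcl, hM⟩ : PicF.IsInvertibleCl (u : PicF.Cl (A ⊗ C).left) := by
    simp only [u, div_eq_mul_inv, mul_inv, Units.val_mul]
    repeat' apply PicMul.isInvertibleCl_mul
    all_goals first | exact inv _ | exact isInvertibleCl_units (inv _)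
  have hcl : ∀ {T : Over (Spec (CommRingCat.of k))} (σ : T ⟶ A ⊗ C),
      PicF.cl ((Scheme.Modules.pullback σ.left).obj M) =
        ((pc hL ((σ ≫ fst A C ≫ α) * (σ ≫ snd A C ≫ j)) / (pc hL (σ ≫ fst A C ≫ α) * pc hL (σ ≫ snd A C ≫ j)) :
          (PicF.Cl T.left)ˣ) : PicF.Cl T.left) := fun σ => by
    show PicMul.pullHom σ.left (PicF.cl M) = _
    rw [hMcl, F_units σ u]
    simp only [u, map_div, map_mul, pull_pc, MonObj.comp_mul]
  refine Units.ext (hMcl.symm.trans ((CubeAb.cl_eq_one_iff _).2 ?_))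
  refine AVSeesaw.triv_of_slices A C _ hM (fun z hz => ?_) 1 ?_
  · refine AVSeesaw.triv_fibre_of_points A C _ (fun a => ?_) z hz
    refine (CubeAb.cl_eq_one_iff _).1 ?_
    rw [hcl, lift_fst_assoc, lift_snd_assoc, Category.id_comp, Category.assoc, AVTheta8.pc_const hL, _root_.mul_one]
    have h := hj a
    rw [delta, map_div, pull_pc, pull_pc, Category.comp_id] at h
    refine congrArg Units.val ((congrArg (fun g => pc hL g / pc hL α) ?_).trans h)
    simp only [CubeAb.tr, MonObj.comp_mul, Category.comp_id, ← Category.assoc]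
    rw [toUnit_unique (α ≫ toUnit B) (toUnit A)]
  · refine (CubeAb.cl_eq_one_iff _).1 ?_
    rw [hcl, lift_fst_assoc, lift_snd_assoc, Category.id_comp]
    simp only [Category.assoc, MonObj.comp_one, MonObj.one_comp, _root_.one_mul, pc_one hL C, div_self']
    rfl

/-- **The index of a tensor product.** -/
theorem index_le_add {L₁ L₂ M : A.left.Modules} (hL₁ : PicF.IsInvertible L₁) (hL₂ : PicF.IsInvertible L₂)
    (hM : PicF.IsInvertible M) (hcl : PicF.cl M = PicF.cl L₁ * PicF.cl L₂) (hf₁ : (fixSet₀ L₁).Finite)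
    (hf₂ : (fixSet₀ L₂).Finite) (hf : (fixSet₀ M).Finite) {i₁ i₂ i : ℕ}
    (h₁ : ∀ j, j ≠ i₁ → Subsingleton (Coh.HH A.left L₁ j)) (h₁' : Nontrivial (Coh.HH A.left L₁ i₁))
    (h₂ : ∀ j, j ≠ i₂ → Subsingleton (Coh.HH A.left L₂ j)) (h₂' : Nontrivial (Coh.HH A.left L₂ i₂))
    (h : ∀ j, j ≠ i → Subsingleton (Coh.HH A.left M j)) (h' : Nontrivial (Coh.HH A.left M i)) : i ≤ i₁ + i₂ := by
  haveI : IsCommMonObj A := isCommMonObj_of_isProper_of_geometricallyIntegral A
  haveI : IsProper (A ⊗ A).hom := isProper_tensor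
  haveI : GeometricallyIntegral (A ⊗ A).hom := H23.MaxAbelian.geometricallyIntegral_tensor A A
  haveI : IsIntegral A.left := GeometricallyIntegral.isIntegral_of_subsingleton A.hom
  haveI : JacobsonSpace A.left := LocallyOfFiniteType.jacobsonSpace A.hom
  obtain ⟨D, hD, ⟨e⟩⟩ := H23.PicInv.exists_inverse hL₂
  have hLD : PicF.cl L₂ * PicF.cl D = 1 := by
    rw [← PicMul.cl_tensor, PicMul.one_def]; exact PicMul.cl_eq_iff.2 ⟨e⟩
  have hW : PicF.IsInvertible (boxMod D L₁) :=
    PicMul.isInvertible_tensor (PicClLib.isInvertible_pullback _ hD) (PicClLib.isInvertible_pullback _ hL₁)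
  let Δ : A ⟶ A ⊗ A := lift (𝟙 A) (𝟙 A)
  haveI : IsMonHom Δ := inferInstance
  have hdiag : ∀ b, Units.map (PicMul.pullHom Δ.left : PicF.Cl (A ⊗ A).left →* PicF.Cl A.left) (delta hW b) =
      delta hL₁ (b ≫ fst A A) / delta hL₂ (b ≫ snd A A) := fun b => by
    rw [delta_box hD hL₁ hW, map_mul]
    have e : ∀ (f : A ⊗ A ⟶ A) (v : (PicF.Cl A.left)ˣ), Δ ≫ f = 𝟙 A →
        Units.map (PicMul.pullHom Δ.left : PicF.Cl (A ⊗ A).left →* PicF.Cl A.left)
          (Units.map (PicMul.pullHom f.left : PicF.Cl A.left →* PicF.Cl (A ⊗ A).left) v) = v := fun f v hf => by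
      ext
      exact (pl_pl Δ f _).trans (by rw [hf, pl_id])
    rw [e _ _ (lift_snd _ _), e _ _ (lift_fst _ _), mul_comm, div_eq_mul_inv]
    congr 1
    rw [eq_inv_iff_mul_eq_one, mul_comm, ← delta_of_mul hL₂ hD (InvX.isInvertible_structureModule) hLD.symm]
    rw [delta, div_eq_one]
    have hO : ∀ f : A ⟶ A, pc InvX.isInvertible_structureModule f = 1 := fun f => Units.ext (by
      show pl f 1 = 1
      exact map_one _)
    rw [hO, hO]
  -- the orthogonal complement
  let H : Subgroup (𝟙_ (Over (Spec (CommRingCat.of k))) ⟶ A ⊗ A) :=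
    { carrier := {b | Units.map (PicMul.pullHom Δ.left : PicF.Cl (A ⊗ A).left →* PicF.Cl A.left) (delta hW b) = 1}
      one_mem' := by
        show _ = 1
        rw [show delta hW 1 = 1 from (stab hW).one_mem, map_one]
      mul_mem' := fun {a b} ha hb => by
        show _ = 1
        rw [delta_mul, map_mul, ha, hb, _root_.one_mul]
      inv_mem' := fun {a} ha => by
        show _ = 1
        have h := delta_mul hW a a⁻¹
        rw [mul_inv_cancel, show delta hW 1 = 1 from (stab hW).one_mem] at h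
        rw [eq_comm, ← inv_eq_iff_mul_eq_one] at h
        rw [← h, map_inv, show _ = (1 : (PicF.Cl A.left)ˣ) from ha, inv_one] }
  obtain ⟨S, hS, hSs⟩ := exists_closed_ker Δ hW
  obtain ⟨Z, iZ, ii, hι, hιc, hrange⟩ := exists_redGroup H hS hSs
  obtain ⟨C, iC, hCp, hCg, j, hj, c, hjc, hcj, F, hF⟩ := AVSubLib.exists_component (A ⊗ A) Z ii
  let u : C ⟶ A := j ≫ fst A A
  let w : C ⟶ A := j ≫ snd A A
  haveI : IsCommMonObj C := isCommMonObj_of_isProper_of_geometricallyIntegral C
  have hjH : ∀ y, delta hL₁ (y ≫ u) = delta hL₂ (y ≫ w) := fun y => by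
    have h0 : y ≫ j ∈ H := (hSs _).1 (by rw [← hrange, ← hcj, ← Category.assoc]; exact ⟨_, rfl⟩)
    rw [← div_eq_one]
    have := (hdiag (y ≫ j)).symm.trans h0
    simpa [u, w, Category.assoc] using this
  have hinj : Function.Injective fun y : 𝟙_ (Over (Spec (CommRingCat.of k))) ⟶ C => y ≫ j := fun y y' hyy => by
    haveI : Mono j.left := inferInstance
    exact Over.OverMorphism.ext ((cancel_mono j.left).1 (congrArg CommaMorphism.left hyy))
  -- the second projection of the complement is an isogeny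
  have hker : Set.Finite {y : 𝟙_ (Over (Spec (CommRingCat.of k))) ⟶ C | y ≫ w = 1} := by
    refine Set.Finite.of_finite_image (f := fun y => y ≫ j) ?_ hinj.injOn
    refine ((hf₁.prod (Set.finite_singleton (1 : 𝟙_ (Over (Spec (CommRingCat.of k))) ⟶ A))).preimage
      (f := fun b : 𝟙_ (Over (Spec (CommRingCat.of k))) ⟶ A ⊗ A => (b ≫ fst A A, b ≫ snd A A)) ?_).subset ?_
    · intro b _ b' _ hb
      obtain ⟨h1, h2⟩ := Prod.mk.inj hb
      exact CartesianMonoidalCategory.hom_ext _ _ h1 h2
    · rintro _ ⟨y, hy, rfl⟩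
      refine ⟨(mem_fixSet₀_iff hL₁ _).2 ?_, by simpa [w] using hy⟩
      show delta hL₁ ((y ≫ j) ≫ fst A A) = 1
      rw [Category.assoc, hjH, show y ≫ w = 1 from hy]
      exact (stab hL₂).one_mem
  haveI : IsProper w.left := by
    haveI : IsProper (w.left ≫ A.hom) := by rw [Over.w]; infer_instance
    exact IsProper.of_comp w.left A.hom
  haveI hsurj : Surjective w.left := by
    refine ⟨fun p => ?_⟩
    by_contra hp
    have hclr : IsClosed (Set.range w.left) := w.left.isClosedMap.isClosed_range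
    -- finitely many translates of the image contain every rational point
    let T : (𝟙_ (Over (Spec (CommRingCat.of k))) ⟶ A ⊗ A) → Set A.left := fun f =>
      (CubeAb.tr (f ≫ snd A A)).left '' Set.range w.left
    have hTc : ∀ f, IsClosed (T f) := fun f => by
      haveI : IsIso (CubeAb.tr (f ≫ snd A A)) := ⟨CubeAb.tr (f ≫ snd A A)⁻¹,
        by rw [AVAmple.tr_tr, mul_inv_cancel, AVAmple.tr_one], by rw [AVAmple.tr_tr, inv_mul_cancel, AVAmple.tr_one]⟩
      haveI : IsIso (CubeAb.tr (f ≫ snd A A)).left := (Over.forget _).map_isIso (CubeAb.tr (f ≫ snd A A))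
      exact (CubeAb.tr (f ≫ snd A A)).left.homeomorph.isClosedMap _ hclr
    have hcov : (⋃ f ∈ F, T f) = Set.univ := by
      by_contra hne
      obtain ⟨z, hz, hzc⟩ := nonempty_inter_closedPoints (Z := (⋃ f ∈ F, T f)ᶜ)
        (Set.nonempty_compl.2 hne) ((F.finite_toSet.isClosed_biUnion fun f _ => hTc f).isOpen_compl.isLocallyClosed)
      obtain ⟨q, rfl⟩ := AVAmple.exists_pt (mem_closedPoints_iff.1 hzc)
      obtain ⟨a, ha⟩ : ∃ a, delta hL₁ a = delta hL₂ q := by
        let d := delta hL₂ q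
        obtain ⟨P, hPcl, hP⟩ : PicF.IsInvertibleCl (d : PicF.Cl A.left) := by
          simp only [d, delta, div_eq_mul_inv, Units.val_mul]
          exact PicMul.isInvertibleCl_mul (PicClLib.isInvertibleCl_pullCl _ ⟨L₂, rfl, hL₂⟩)
            (isInvertibleCl_units (PicClLib.isInvertibleCl_pullCl _ ⟨L₂, rfl, hL₂⟩))
        obtain ⟨a, ha⟩ := exists_translate hL₁ hP (fun b => by
          rw [hPcl, show CubeAb.F _ (CubeAb.tr b) = _ from F_units (CubeAb.tr b) _, delta_invariant]) hf₁
        refine ⟨a, ?_⟩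
        rw [delta, div_eq_iff_eq_mul]
        ext
        rw [Units.val_mul, val_pc_id]
        exact ha.trans (by rw [hPcl])
      have hb : lift a q ∈ H := (hdiag _).trans (by rw [lift_fst, lift_snd, ha, div_self'])
      obtain ⟨z0, hz0⟩ : AVAmple.pt (lift a q) ∈ Set.range ii.left := by rw [hrange]; exact (hSs _).2 hb
      haveI : LocallyOfFiniteType Z.hom := by rw [← Over.w ii]; infer_instance
      have hzc0 : IsClosed ({z0} : Set Z.left) := by
        have h := (AVAmple.isClosed_pt (lift a q)).preimage ii.left.continuous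
        rw [← hz0] at h
        convert h using 1
        exact (Set.preimage_image_eq {z0} ii.left.isEmbedding.injective).symm.trans (by rw [Set.image_singleton])
      obtain ⟨x, rfl⟩ := AVSubLib.exists_pt hzc0
      obtain ⟨f, hf', y, hy⟩ := hF x
      have hq : q = (y ≫ w) ≫ CubeAb.tr (f ≫ snd A A) := by
        have h1 : x ≫ ii = lift a q := AVTheta8.pt_injective hz0
        have h2 := congrArg (fun b => b ≫ snd A A) (h1.symm.trans hy)
        simp only [lift_snd, MonObj.mul_comp, Category.assoc] at h2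
        refine h2.trans ?_
        simp only [w, CubeAb.tr, MonObj.comp_mul, Category.comp_id, ← Category.assoc]
        rw [toUnit_unique (((y ≫ j) ≫ snd A A) ≫ toUnit A) (𝟙 _), Category.id_comp, _root_.mul_comm]
      refine hz (Set.mem_biUnion hf' ⟨w.left (y.left (closedPoint k)), ⟨_, rfl⟩, ?_⟩)
      exact (congrArg AVAmple.pt hq).symm
    obtain ⟨f, -, hf''⟩ : ∃ f ∈ F, genericPoint A.left ∈ T f := by
      have := hcov.ge (Set.mem_univ (genericPoint A.left))
      simpa using this
    have huniv : T f = Set.univ := Set.eq_univ_of_forall fun z =>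
      (hTc f).closure_subset_iff.2 (Set.singleton_subset_iff.2 hf'')
        (specializes_iff_mem_closure.1 (genericPoint_specializes z))
    obtain ⟨z, hz, hzp⟩ := huniv.ge (Set.mem_univ ((CubeAb.tr (f ≫ snd A A)).left p))
    haveI : IsIso (CubeAb.tr (f ≫ snd A A)) := ⟨CubeAb.tr (f ≫ snd A A)⁻¹,
      by rw [AVAmple.tr_tr, mul_inv_cancel, AVAmple.tr_one], by rw [AVAmple.tr_tr, inv_mul_cancel, AVAmple.tr_one]⟩
    haveI : IsIso (CubeAb.tr (f ≫ snd A A)).left := (Over.forget _).map_isIso (CubeAb.tr (f ≫ snd A A))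
    obtain rfl := (CubeAb.tr (f ≫ snd A A)).left.homeomorph.injective hzp
    exact hp hz
  haveI : IsProper (A ⊗ C).hom := isProper_tensor
  haveI : GeometricallyIntegral (A ⊗ C).hom := H23.MaxAbelian.geometricallyIntegral_tensor A C
  haveI : IsFinite w.left := by
    haveI : IsIntegral C.left := GeometricallyIntegral.isIntegral_of_subsingleton C.hom
    haveI : IsLocallyNoetherian C.left := LocallyOfFiniteType.isLocallyNoetherian C.hom
    exact (isogeny_of_finite_ker w hker (by
      rw [VarDim.topologicalKrullDim_eq_deg_genericPoint A.hom, VarDim.topologicalKrullDim_eq_deg_genericPoint C.hom]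
      have h := VarDim.deg_eq_add w.left A.hom (Over.w w) (genericPoint C.left)
      rw [show w.left (genericPoint C.left) = genericPoint A.left from
        (genericPoint_spec C.left).image w.left.continuous |>.eq (by
          rw [Set.image_univ, w.left.surjective.range_eq, closure_univ]; exact genericPoint_spec A.left)] at h
      exact_mod_cast (by omega : VarDim.deg A.hom (genericPoint A.left) ≤ VarDim.deg C.hom (genericPoint C.left)))).1
  -- the isogeny
  let β : A ⊗ C ⟶ A ⊗ A := lift (fst A C * (snd A C ≫ u)) (fst A C * (snd A C ≫ w)⁻¹)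
  haveI : IsMonHom β := AlbFormal.isMonHom_of_one β (by
    apply CartesianMonoidalCategory.hom_ext <;>
      simp [β, u, w, MonObj.one_eq_one, MonObj.comp_mul, GrpObj.comp_inv, MonObj.one_comp])
  have hdeltaM : ∀ z, delta hM z = delta hL₁ z * delta hL₂ z := delta_of_mul hL₁ hL₂ hM hcl
  have hd1 : ∀ {L : A.left.Modules} (hL : PicF.IsInvertible L) (z : 𝟙_ (Over (Spec (CommRingCat.of k))) ⟶ A),
      delta hL z⁻¹ = (delta hL z)⁻¹ := fun hL z => by
    rw [eq_inv_iff_mul_eq_one, ← delta_mul, inv_mul_cancel]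
    exact (stab hL).one_mem
  have hkerβ : Set.Finite {z : 𝟙_ (Over (Spec (CommRingCat.of k))) ⟶ A ⊗ C | z ≫ β = 1} := by
    have hz : ∀ z ∈ {z : 𝟙_ (Over (Spec (CommRingCat.of k))) ⟶ A ⊗ C | z ≫ β = 1},
        (z ≫ snd A C) ≫ u = (z ≫ fst A C)⁻¹ ∧ (z ≫ snd A C) ≫ w = z ≫ fst A C := fun z hz => by
      have h1 := congrArg (fun q => q ≫ fst A A) hz
      have h2 := congrArg (fun q => q ≫ snd A A) hz
      simp only [β, Category.assoc, lift_fst, lift_snd, MonObj.comp_mul, MonObj.one_comp, GrpObj.comp_inv] at h1 h2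
      exact ⟨(Category.assoc _ _ _).trans (eq_inv_of_mul_eq_one_right h1),
        (Category.assoc _ _ _).trans (mul_inv_eq_one.1 h2).symm⟩
    refine Set.Finite.of_finite_image (f := fun z => z ≫ fst A C) (hf.subset ?_) ?_
    · rintro _ ⟨z, hz', rfl⟩
      obtain ⟨hu, hw⟩ := hz z hz'
      refine (mem_fixSet₀_iff hM _).2 ?_
      have h := hjH (z ≫ snd A C)
      rw [hu, hw, hd1] at h
      rw [hdeltaM, ← h, mul_inv_cancel]
    · intro z hz' z' hz'' hzz
      change z ≫ fst A C = z' ≫ fst A C at hzz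
      refine CartesianMonoidalCategory.hom_ext _ _ hzz (hinj ?_)
      refine CartesianMonoidalCategory.hom_ext _ _ ?_ ?_
      · exact (Category.assoc _ _ _).trans ((hz z hz').1.trans ((congrArg (·⁻¹) hzz).trans
          ((hz z' hz'').1.symm.trans (Category.assoc _ _ _).symm)))
      · exact (Category.assoc _ _ _).trans ((hz z hz').2.trans (hzz.trans
          ((hz z' hz'').2.symm.trans (Category.assoc _ _ _).symm)))
  haveI : IsIntegral (A ⊗ A).left := GeometricallyIntegral.isIntegral_of_subsingleton (A ⊗ A).hom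
  haveI : IsIntegral (A ⊗ C).left := GeometricallyIntegral.isIntegral_of_subsingleton (A ⊗ C).hom
  haveI : IsLocallyNoetherian (A ⊗ C).left := LocallyOfFiniteType.isLocallyNoetherian (A ⊗ C).hom
  haveI : IsLocallyNoetherian (A ⊗ A).left := LocallyOfFiniteType.isLocallyNoetherian (A ⊗ A).hom
  obtain ⟨hβ, hβf, hβs⟩ := isogeny_of_finite_ker β hkerβ (dim_tensor_eq w).ge
  -- the class splits
  have hW₂ : PicF.IsInvertible (boxMod L₂ L₁) :=
    PicMul.isInvertible_tensor (PicClLib.isInvertible_pullback _ hL₂) (PicClLib.isInvertible_pullback _ hL₁)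
  let gam : C ⟶ A ⊗ A := lift u w⁻¹
  have hN : PicF.IsInvertible ((Scheme.Modules.pullback gam.left).obj (boxMod L₂ L₁)) :=
    PicClLib.isInvertible_pullback _ hW₂
  have hbox : ∀ {X Y : A.left.Modules} (hX : PicF.IsInvertible X) (hY : PicF.IsInvertible Y)
      (hXY : PicF.IsInvertible (boxMod X Y)) {T : Over (Spec (CommRingCat.of k))} (f : T ⟶ A ⊗ A),
      pc hXY f = pc hX (f ≫ snd A A) * pc hY (f ≫ fst A A) := fun {X Y} hX hY hXY {T} f => Units.ext (by
    rw [Units.val_mul]
    show pl f (PicF.cl (boxMod X Y)) = pl (f ≫ snd A A) (PicF.cl X) * pl (f ≫ fst A A) (PicF.cl Y)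
    rw [show PicF.cl (boxMod X Y) = pl (snd A A) (PicF.cl X) * pl (fst A A) (PicF.cl Y) from PicMul.cl_tensor _ _,
      map_mul, pl_pl, pl_pl])
  have hinvD : ∀ {T : Over (Spec (CommRingCat.of k))} (f : T ⟶ A), pc hD f = (pc hL₂ f)⁻¹ := fun f => by
    rw [eq_inv_iff_mul_eq_one]
    ext
    show pl f (PicF.cl D) * pl f (PicF.cl L₂) = 1
    rw [← map_mul, mul_comm, hLD, map_one]
  have hpc : pc hW₂ β = pc hM (fst A C) * pc hW₂ (snd A C ≫ gam) := by
    have hsplit := cross_split Δ j hW fun y => by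
      rw [hdiag, Category.assoc, Category.assoc, hjH, div_self']
    simp only [hbox hD hL₁ hW, hinvD, MonObj.mul_comp, Category.assoc, Δ, lift_fst, lift_snd, Category.comp_id] at hsplit
    change (pc hL₂ (fst A C * (snd A C ≫ w)))⁻¹ * pc hL₁ (fst A C * (snd A C ≫ u)) =
      (pc hL₂ (fst A C))⁻¹ * pc hL₁ (fst A C) * ((pc hL₂ (snd A C ≫ w))⁻¹ * pc hL₁ (snd A C ≫ u)) at hsplit
    have hcube := cube_rel hL₂ (fst A C) (snd A C ≫ w) (snd A C ≫ w)⁻¹
    rw [mul_inv_cancel_right, mul_inv_cancel, pc_one, _root_.mul_one] at hcube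
    have hMf : pc hM (fst A C) = pc hL₁ (fst A C) * pc hL₂ (fst A C) := Units.ext (by
      show pl (fst A C) (PicF.cl M) = pl (fst A C) (PicF.cl L₁) * pl (fst A C) (PicF.cl L₂)
      rw [hcl, map_mul])
    rw [hbox hL₂ hL₁ hW₂, hbox hL₂ hL₁ hW₂, hMf]
    simp only [β, gam, lift_fst, lift_snd, Category.assoc, GrpObj.comp_inv]
    rw [_root_.mul_assoc (pc hL₂ (fst A C)), mul_comm (pc hL₂ (fst A C * (snd A C ≫ w)))] at hcube
    have h3 := congrArg₂ (· * ·) hsplit hcube.symm
    apply Additive.ofMul.injective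
    have h4 := congrArg Additive.ofMul h3
    simp only [ofMul_mul, ofMul_inv] at h4 ⊢
    linear_combination (norm := module) h4
  let N := (Scheme.Modules.pullback gam.left).obj (boxMod L₂ L₁)
  obtain ⟨e⟩ : Nonempty (boxMod N M ≅ (Scheme.Modules.pullback β.left).obj (boxMod L₂ L₁)) := PicMul.cl_eq_iff.1 (by
    refine (PicMul.cl_tensor _ _).trans ?_
    show pl (snd A C) (pl gam (PicF.cl (boxMod L₂ L₁))) * pl (fst A C) (PicF.cl M) = pl β (PicF.cl (boxMod L₂ L₁))
    rw [pl_pl, _root_.mul_comm]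
    exact (congrArg Units.val hpc).symm)
  have hB : PicF.IsInvertible (boxMod N M) :=
    PicMul.isInvertible_tensor (PicClLib.isInvertible_pullback _ hN) (PicClLib.isInvertible_pullback _ hM)
  have hf₁₂ := finite_fixSet₀_box hL₂ hL₁ hf₂ hf₁
  obtain ⟨hW₂v, hW₂n⟩ := index_box hL₂ hL₁ hf₁₂ h₂ h₂' h₁ h₁'
  have hfB : (fixSet₀ (boxMod N M)).Finite := by
    have e' : PicF.cl (boxMod N M) = PicF.cl ((Scheme.Modules.pullback β.left).obj (boxMod L₂ L₁)) :=
      PicMul.cl_eq_iff.2 ⟨e⟩
    refine (finite_fixSet₀_pull β hW₂ hf₁₂).subset fun z hz => ?_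
    show pl (CubeAb.tr z) _ = _
    rw [← e']
    exact hz
  have hfN : (fixSet₀ N).Finite := by
    refine Set.Finite.of_finite_image (f := fun y => lift (1 : 𝟙_ (Over (Spec (CommRingCat.of k))) ⟶ A) y)
      (hfB.subset ?_) fun y _ y' _ hyy => ?_
    · rintro _ ⟨y, hy, rfl⟩
      refine (mem_fixSet₀_iff hB _).2 ?_
      rw [delta_box hN hM hB, lift_fst, lift_snd, show delta hM 1 = 1 from (stab hM).one_mem,
        show delta hN y = 1 from (mem_fixSet₀_iff hN y).1 hy, map_one, map_one, _root_.one_mul]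
    · simpa using congrArg (fun q => q ≫ snd A C) hyy
  haveI : IsIntegral C.left := GeometricallyIntegral.isIntegral_of_subsingleton C.hom
  obtain ⟨g, hg⟩ : ∃ g : ℕ, topologicalKrullDim C.left = g :=
    ⟨_, VarDim.topologicalKrullDim_eq_deg_genericPoint C.hom⟩
  obtain ⟨D', hD', ⟨e'⟩⟩ := H23.PicInv.exists_inverse hN
  have hND : PicF.cl N * PicF.cl D' = 1 := by
    rw [← PicMul.cl_tensor, PicMul.one_def]; exact PicMul.cl_eq_iff.2 ⟨e'⟩
  obtain ⟨l, -, hNv, hNn, -, -⟩ := exists_index hN hND hfN hg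
  obtain ⟨hBv, hBn⟩ := index_box hN hM hfB hNv hNn h h'
  letI : (A ⊗ C).left.Over (Spec (CommRingCat.of k)) := ⟨(A ⊗ C).hom⟩
  haveI : IsProper ((A ⊗ C).left ↘ Spec (CommRingCat.of k)) := ‹IsProper (A ⊗ C).hom›
  by_contra hlt
  refine not_subsingleton_iff_nontrivial.2 hBn (subsingleton_HH_congr k e.symm (l + i)
    ((index_pull β hW₂ hf₁₂ (l + i)).1 (hW₂v (l + i) (by omega))))

end Groth.Agent.AVIndex
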