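import Groth.Agent.AVDualCx.Descend
import Groth.Agent.AVTheta8.Surj
import Groth.Agent.GrpOmega.Shear
import Groth.Agent.NormUniq.Basic

/-!
# The Mumford family of a non-degenerate module

For `L` invertible with inverse `L'` and finitely many translations fixing it, the module `L' ⊠ L` on `A ×_k A`
has cohomology in degree `g` only, and there it is non-zero.
-/

noncomputable section

set_option autoImplicit false
set_option linter.style.haveILetI false
set_option linter.unusedSectionVars false
set_option backward.isDefEq.respectTransparency false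
set_option backward.isDefEq.respectTransparency.types false
set_option maxHeartbeats 1000000

universe u

open CategoryTheory CategoryTheory.Limits MonoidalCategory CartesianMonoidalCategory MonObj AlgebraicGeometry TopologicalSpace Opposite IsLocalRing

namespace Groth.Agent.AVIndex

open Groth.Agent Groth.Agent.H23 Groth.Agent.H23.TrivBasic Groth.Agent.AVCube Groth.Agent.AVPair Groth.Agent.AVDualCx
open scoped Groth.Agent.H23.PicMul

variable {k : Type u} [Field k] [IsAlgClosed k] {A B : Over (Spec (CommRingCat.of k))} [GrpObj A] [IsProper A.hom]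
  [GeometricallyIntegral A.hom] [GrpObj B] [IsProper B.hom] [GeometricallyIntegral B.hom]
  {α : A ⟶ B} [IsMonHom α] {L : B.left.Modules} {L' : A.left.Modules}

local notation "Pt" => 𝟙_ (Over (Spec (CommRingCat.of k))) ⟶ B

/-- The inverse of an invertible module is invertible. -/
theorem isInvertible_inverse {X : Scheme.{u}} {M M' : X.Modules} (hM : PicF.IsInvertible M)
    (h : PicF.cl M * PicF.cl M' = 1) : PicF.IsInvertible M' := by
  obtain ⟨D, hD, ⟨u⟩⟩ := H23.PicInv.exists_inverse hM
  have h2 : PicF.cl M * PicF.cl D = 1 := by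
    rw [← PicMul.cl_tensor, PicMul.one_def]; exact PicMul.cl_eq_iff.2 ⟨u⟩
  exact PicMul.isInvertible_of_iso (PicMul.cl_eq_iff.1 ((PicMul.isUnit_cl hM).mul_left_cancel (h2.trans h.symm))).some hD

theorem isInvertible_inverse_pull (hL : PicF.IsInvertible L) (hLL : pl α (PicF.cl L) * PicF.cl L' = 1) :
    PicF.IsInvertible L' :=
  isInvertible_inverse (M := (Scheme.Modules.pullback α.left).obj L) (PicClLib.isInvertible_pullback _ hL) hLL

/-- The addition map twisted by a homomorphism. -/
abbrev addMap (α : A ⟶ B) : A ⊗ B ⟶ B := (fst A B ≫ α) * snd A B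

/-- The family `x ↦ α^*(t_x^*L ⊗ L⁻¹)`. -/
abbrev family (α : A ⟶ B) (L : B.left.Modules) (L' : A.left.Modules) : (A ⊗ B).left.Modules :=
  CohB1.tensorMod ((Scheme.Modules.pullback (addMap α).left).obj L) ((Scheme.Modules.pullback (fst A B).left).obj L')

theorem isInvertible_family (hL : PicF.IsInvertible L) (hLL : pl α (PicF.cl L) * PicF.cl L' = 1) :
    PicF.IsInvertible (family α L L') :=
  PicMul.isInvertible_tensor (PicClLib.isInvertible_pullback _ hL)
    (PicClLib.isInvertible_pullback _ (isInvertible_inverse_pull hL hLL))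

theorem slice_addMap (a : Pt) : lift (𝟙 A) (toUnit A ≫ a) ≫ addMap α = α ≫ CubeAb.tr a := by
  rw [addMap, MonObj.comp_mul, lift_fst_assoc, lift_snd, Category.id_comp, CubeAb.tr, MonObj.comp_mul, Category.comp_id,
    ← Category.assoc, toUnit_unique (α ≫ toUnit B) (toUnit A)]

theorem slice_family (hL : PicF.IsInvertible L) (hLL : pl α (PicF.cl L) * PicF.cl L' = 1) (a : Pt) :
    PicF.cl ((Scheme.Modules.pullback (lift (𝟙 A) (toUnit A ≫ a)).left).obj (family α L L')) =
      pl α ((AVTheta8.delta hL a : (PicF.Cl B.left)ˣ) : PicF.Cl B.left) := by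
  show pl (lift (𝟙 A) (toUnit A ≫ a)) (PicF.cl (family α L L')) = _
  rw [show PicF.cl (family α L L') = pl (addMap α) (PicF.cl L) * pl (fst A B) (PicF.cl L') from PicMul.cl_tensor _ _,
    map_mul, pl_pl, pl_pl, slice_addMap, lift_fst, pl_id, AVTheta8.delta, div_eq_mul_inv, Units.val_mul, map_mul]
  have h : pl α ((pc hL (𝟙 B))⁻¹ : (PicF.Cl B.left)ˣ).val = PicF.cl L' := by
    refine left_inv_eq_right_inv (a := pl α (PicF.cl L)) ?_ hLL
    rw [← val_pc_id hL, ← map_mul, Units.inv_mul, map_one]
  rw [h, ← pl_pl]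
  rfl

theorem isAdditive_pl {c : PicF.Cl B.left} (h : CubeAb.IsAdditive c) : CubeAb.IsAdditive (pl α c) := by
  show pl (fst A A * snd A A) (pl α c) = pl (fst A A) (pl α c) * pl (snd A A) (pl α c)
  rw [pl_pl, pl_pl, pl_pl, MonObj.mul_comp]
  exact h.apply _ _

/-- The points where the family is trivial. -/
abbrev fixSet (α : A ⟶ B) (L : B.left.Modules) : Set Pt :=
  {a | pl (α ≫ CubeAb.tr a) (PicF.cl L) = pl α (PicF.cl L)}

theorem mem_fixSet_iff (hL : PicF.IsInvertible L) (a : Pt) :
    a ∈ fixSet α L ↔ pl α ((AVTheta8.delta hL a : (PicF.Cl B.left)ˣ) : PicF.Cl B.left) = 1 := by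
  rw [AVTheta8.delta, div_eq_mul_inv, Units.val_mul, map_mul]
  have hu : pl α (pc hL (𝟙 B) : PicF.Cl B.left) * pl α ((pc hL (𝟙 B))⁻¹ : (PicF.Cl B.left)ˣ).val = 1 := by
    rw [← map_mul, Units.mul_inv, map_one]
  have h1 : pl α (pc hL (CubeAb.tr a) : PicF.Cl B.left) = pl (α ≫ CubeAb.tr a) (PicF.cl L) :=
    pl_pl α (CubeAb.tr a) (PicF.cl L)
  rw [h1]
  constructor
  · intro h
    rw [Set.mem_setOf_eq] at h
    rw [h, ← val_pc_id hL]
    exact hu
  · intro h
    show pl (α ≫ CubeAb.tr a) (PicF.cl L) = pl α (PicF.cl L)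
    exact (left_inv_eq_right_inv (a := pl α ((pc hL (𝟙 B))⁻¹ : (PicF.Cl B.left)ˣ).val) h
      (by rw [_root_.mul_comm]; exact hu)).trans (congrArg (pl α) (val_pc_id hL))

/-- The underlying point of a rational point. -/
abbrev ptOf (a : Pt) : B.left := a.left (closedPoint k)

theorem isClosed_ptOf (a : Pt) : IsClosed ({ptOf a} : Set B.left) := AVAmple.isClosed_pt a

/-- The set of points where the direct images may live. -/
abbrev bad (α : A ⟶ B) (L : B.left.Modules) : Set B.left := ptOf '' fixSet α L

theorem subsingleton_fiberH (hL : PicF.IsInvertible L) (hLL : pl α (PicF.cl L) * PicF.cl L' = 1) {y : B.left}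
    (hy : IsClosed ({y} : Set B.left)) (hyb : y ∉ bad α L) (p : ℕ) :
    Subsingleton (CohIII.fiberH (snd A B).left (family α L L') y p) := by
  obtain ⟨b, rfl⟩ := AVAmple.exists_pt hy
  haveI : IsProper (snd A B).left := inferInstanceAs (IsProper (pullback.snd A.hom B.hom))
  haveI : Flat (snd A B).left := inferInstanceAs (Flat (pullback.snd A.hom B.hom))
  haveI : Coh.IsQCoh (family α L L') :=
    QCoh.isQCoh_of_isFinLocFree (PullPush.isFinLocFree_of_isInvertible (isInvertible_family hL hLL))
  refine (AVTheta8.subsingleton_fiberH_iff (snd A B).left b.left B.hom (Over.w b) (isPullback_sliceB b)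
    (family α L L') p).2 ?_
  refine AVTheta8.subsingleton_HH_of_additive (PicClLib.isInvertible_pullback _ (isInvertible_family hL hLL))
    (by rw [slice_family hL hLL]; exact isAdditive_pl (AVTheta8.isAdditive_delta hL b)) (fun ht => hyb ⟨b, ?_, rfl⟩) p
  refine (mem_fixSet_iff hL b).2 ?_
  rw [← slice_family hL hLL]
  exact (triv_iff _).1 ht

theorem vanAt_family (hL : PicF.IsInvertible L) (hLL : pl α (PicF.cl L) * PicF.cl L' = 1) (hfin : (fixSet α L).Finite)
    {z : B.left} (hz : z ∉ bad α L) (p : ℕ) : CohPullLib.VanAt (snd A B).left (family α L L') p z := by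
  haveI : IsProper (snd A B).left := inferInstanceAs (IsProper (pullback.snd A.hom B.hom))
  haveI : Flat (snd A B).left := inferInstanceAs (Flat (pullback.snd A.hom B.hom))
  haveI : LocallyOfFinitePresentation (snd A B).left :=
    inferInstanceAs (LocallyOfFinitePresentation (pullback.snd A.hom B.hom))
  haveI : IsLocallyNoetherian B.left := LocallyOfFiniteType.isLocallyNoetherian B.hom
  haveI : JacobsonSpace B.left := LocallyOfFiniteType.jacobsonSpace B.hom
  have hq : Coh.IsQCoh (family α L L') :=
    QCoh.isQCoh_of_isFinLocFree (PullPush.isFinLocFree_of_isInvertible (isInvertible_family hL hLL))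
  have hfp := SeesawGen.isFP_of_isInvertible (isInvertible_family hL hLL)
  have hfl := Seesaw.isFlatOver_of_isInvertible (snd A B).left (isInvertible_family hL hLL)
  let U : B.left.Opens := AVTheta8.complOpen (hfin.image ptOf) fun x hx => by
    obtain ⟨a, -, rfl⟩ := hx; exact isClosed_ptOf a
  by_contra hn
  obtain ⟨w, hw, hwc⟩ := nonempty_inter_closedPoints
    (Z := (U : Set B.left) ∩ {y : B.left | CohPullLib.VanAt (snd A B).left (family α L L') p y}ᶜ) ⟨z, hz, hn⟩
    ((U.2.isLocallyClosed).inter (CohPullLib.isOpen_vanAt p).isClosed_compl.isLocallyClosed)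
  exact hw.2 (CohPullLib.vanAt_of_subsingleton hq hfp hfl p
    (subsingleton_fiberH hL hLL (mem_closedPoints_iff.1 hwc) hw.1 p))

theorem subsingleton_stalk_family [HasInjectiveResolutions (A ⊗ B).left.Modules] (hL : PicF.IsInvertible L)
    (hLL : pl α (PicF.cl L) * PicF.cl L' = 1) (hfin : (fixSet α L).Finite) (p : ℕ) {z : B.left} (hz : z ∉ bad α L) :
    Subsingleton (((Coh.Rpush (snd A B).left p).obj (family α L L')).presheaf.stalk z) := by
  haveI : IsProper (snd A B).left := inferInstanceAs (IsProper (pullback.snd A.hom B.hom))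
  haveI : Flat (snd A B).left := inferInstanceAs (Flat (pullback.snd A.hom B.hom))
  haveI : LocallyOfFinitePresentation (snd A B).left :=
    inferInstanceAs (LocallyOfFinitePresentation (pullback.snd A.hom B.hom))
  haveI : IsLocallyNoetherian B.left := LocallyOfFiniteType.isLocallyNoetherian B.hom
  haveI : JacobsonSpace B.left := LocallyOfFiniteType.jacobsonSpace B.hom
  haveI : CompactSpace A.left := QuasiCompact.compactSpace_of_compactSpace A.hom
  haveI : CompactSpace B.left := QuasiCompact.compactSpace_of_compactSpace B.hom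
  haveI : IsLocallyNoetherian A.left := LocallyOfFiniteType.isLocallyNoetherian A.hom
  have hq : Coh.IsQCoh (family α L L') :=
    QCoh.isQCoh_of_isFinLocFree (PullPush.isFinLocFree_of_isInvertible (isInvertible_family hL hLL))
  let U : B.left.Opens := AVTheta8.complOpen (hfin.image ptOf) fun x hx => by
    obtain ⟨a, -, rfl⟩ := hx; exact isClosed_ptOf a
  exact subsingleton_stalk_of_isZero_restrict (AVTheta8.isZero_restrict_of_closedPoints (snd A B).left hq
    (SeesawGen.isFP_of_isInvertible (isInvertible_family hL hLL))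
    (Seesaw.isFlatOver_of_isInvertible (snd A B).left (isInvertible_family hL hLL)) p U
    fun y hy hyc => subsingleton_fiberH hL hLL hyc hy p) (U := U) hz

/-- **The direct images of the family.** -/
theorem rpush_family [HasInjectiveResolutions (A ⊗ B).left.Modules] (hL : PicF.IsInvertible L)
    (hLL : pl α (PicF.cl L) * PicF.cl L' = 1) (hfin : (fixSet α L).Finite) {g : ℕ} (hg : topologicalKrullDim A.left = g)
    (hgB : topologicalKrullDim B.left = g) :
    (∀ p, p ≠ g → IsZero ((Coh.Rpush (snd A B).left p).obj (family α L L'))) ∧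
      ¬ IsZero ((Coh.Rpush (snd A B).left g).obj (family α L L')) := by
  haveI : IsIntegral A.left := GeometricallyIntegral.isIntegral_of_subsingleton A.hom
  haveI : IsLocallyNoetherian B.left := LocallyOfFiniteType.isLocallyNoetherian B.hom
  haveI : CompactSpace A.left := QuasiCompact.compactSpace_of_compactSpace A.hom
  haveI : CompactSpace B.left := QuasiCompact.compactSpace_of_compactSpace B.hom
  haveI : IsLocallyNoetherian A.left := LocallyOfFiniteType.isLocallyNoetherian A.hom
  haveI : AlgebraicGeometry.IsNoetherian A.left := ⟨⟩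
  haveI : A.left.IsSeparated := ⟨by rw [← terminal.comp_from A.hom]; infer_instance⟩
  haveI : IsIntegral B.left := GeometricallyIntegral.isIntegral_of_subsingleton B.hom
  haveI : Smooth B.hom := GrpSchLib.smooth_of_isReduced_of_isAlgClosed B
  let f : (A ⊗ B).left ⟶ B.left := (snd A B).left
  haveI : IsProper f := inferInstanceAs (IsProper (pullback.snd A.hom B.hom))
  haveI : Flat f := inferInstanceAs (Flat (pullback.snd A.hom B.hom))
  haveI : LocallyOfFinitePresentation f := inferInstanceAs (LocallyOfFinitePresentation (pullback.snd A.hom B.hom))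
  have hF := isInvertible_family hL hLL
  have hq : Coh.IsQCoh (family α L L') := QCoh.isQCoh_of_isFinLocFree (PullPush.isFinLocFree_of_isInvertible hF)
  have hfp := SeesawGen.isFP_of_isInvertible hF
  have hfl := Seesaw.isFlatOver_of_isInvertible f hF
  have hbadc : ∀ x ∈ bad α L, IsClosed ({x} : Set B.left) := fun x hx => by
    obtain ⟨a, -, rfl⟩ := hx; exact isClosed_ptOf a
  -- the package at a bad point
  have key : ∀ a : Pt, (∀ p, p ≠ g → Subsingleton (((Coh.Rpush f p).obj (family α L L')).presheaf.stalk (ptOf a))) ∧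
      (a ∈ fixSet α L → Nontrivial (((Coh.Rpush f g).obj (family α L L')).presheaf.stalk (ptOf a))) := by
    intro a
    have hs : IsClosed ({ptOf a} : Set B.left) := isClosed_ptOf a
    haveI : IsRegularLocalRing (B.left.presheaf.stalk (ptOf a)) :=
      GrpSchLib.isRegularLocalRing_stalk_of_smooth B.hom (ptOf a)
    have hdimR : ringKrullDim (B.left.presheaf.stalk (ptOf a)) = (g : WithBot ℕ∞) :=
      (S0354.result k B (ptOf a) hs).trans hgB
    have hdepth : LocCoh.depth (B.left.presheaf.stalk (ptOf a)) (B.left.presheaf.stalk (ptOf a)) = (g : ℕ∞) := by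
      have h := (S10834.depth_of_regular (B.left.presheaf.stalk (ptOf a))).trans hdimR
      exact_mod_cast h
    let U : B.left.Opens := AVTheta8.complOpen ((hfin.image ptOf).sdiff (t := {ptOf a})) fun x hx => hbadc x hx.1
    have hvan : ∀ z ∈ U, z ≠ ptOf a → ∀ p, CohPullLib.VanAt f (family α L L') p z := fun z hz hne p =>
      vanAt_family hL hLL hfin (fun hb => hz ⟨hb, hne⟩) p
    have hdim : ∀ p, g < p → CohIII.fiberRank f (family α L L') p (ptOf a) = 0 := fun p hp => by
      haveI : Subsingleton (CohIII.fiberH f (family α L L') (ptOf a) p) :=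
        (AVTheta8.subsingleton_fiberH_iff f a.left B.hom (Over.w a) (isPullback_sliceB a) (family α L L') p).2
          (Snapper.subsingleton_HH_of_dim_le hg.le (QCoh.isQCoh_pullback _ hq) hp)
      exact Module.finrank_zero_of_subsingleton
    obtain ⟨P, hP, hrank, hH, -⟩ := exists_stalk_package (f := f) hq hfp hfl hs U
      (fun h => h.2 rfl) hvan hdim
    refine ⟨fun p hp => ?_, fun ha => ?_⟩
    · haveI := ModuleCat.subsingleton_of_isZero (hP.isZero_homology hdepth (p : ℤ) (by omega))
      exact (hH p).some.toEquiv.subsingleton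
    · haveI : ∀ i, Module.Finite (B.left.presheaf.stalk (ptOf a)) (P.X i) := fun i => (hP.free i).1
      haveI : ∀ i, Module.Free (B.left.presheaf.stalk (ptOf a)) (P.X i) := fun i => (hP.free i).2
      obtain ⟨s, hs1, hs2⟩ : ∃ s : B.left.presheaf.stalk (ptOf a) →+* k, RingHom.ker s = maximalIdeal _ ∧
          Spec.map (CommRingCat.ofHom s) ≫ B.left.fromSpecStalk (ptOf a) = a.left :=
        ⟨(Scheme.stalkClosedPointTo a.left).hom, by
          haveI : IsClosedImmersion a.left := isClosedImmersion_of_comp_eq_id B.hom _ (Over.w a)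
          exact IsLocalRing.eq_maximalIdeal (RingHom.ker_isMaximal_of_surjective _
            (NormUniq.surjective_of_isPreimmersion a.left)), Scheme.Spec_stalkClosedPointTo_fromSpecStalk _⟩
      have hg1 : Module.finrank (B.left.presheaf.stalk (ptOf a)) (P.X (g : ℤ)) ≠ 0 := by
        rw [hrank k s hs1 A.left _ A.hom (by rw [hs2]; exact isPullback_sliceB a) g]
        letI : A.left.Over (Spec (CommRingCat.of k)) := ⟨A.hom⟩
        haveI : IsProper (A.left ↘ Spec (CommRingCat.of k)) := ‹IsProper A.hom›
        obtain ⟨iO⟩ : Nonempty ((Scheme.Modules.pullback (lift (𝟙 A) (toUnit A ≫ a)).left).obj (family α L L') ≅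
            Coh.structureModule A.left) := PicMul.cl_eq_iff.1 (by
          rw [slice_family hL hLL, (mem_fixSet_iff hL a).1 ha]
          rfl)
        rw [show @Module.finrank k (Coh.HH A.left _ g) _ _ _ = _ from HilbPoly.finrank_HH_iso k iO g]
        obtain ⟨M, hMa, -⟩ := S8121.result k A
        show @Module.finrank k (Coh.HH A.left (Coh.structureModule A.left) g) _ _
          (QCoh.modHH (Coh.toGlobal A.hom) (Coh.structureModule A.left) g) ≠ 0
        rw [finrank_HH_structure hMa.1 ((S12002.result k A M hMa).subset fun b hb =>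
          PicMul.cl_eq_iff.1 ((AVTheta8.delta_eq_one hMa.1 b).1 hb)) g hg g, Nat.choose_self]
        exact one_ne_zero
      haveI : Nontrivial (P.X (g : ℤ)) := Module.nontrivial_of_finrank_pos (Nat.pos_of_ne_zero hg1)
      suffices h : Nontrivial (P.homology (g : ℤ)) from (hH g).some.toEquiv.nontrivial
      by_contra hh
      rw [not_nontrivial_iff_subsingleton] at hh
      have hall : (⊤ : Submodule (B.left.presheaf.stalk (ptOf a)) (P.X (g : ℤ))) ≤
          maximalIdeal (B.left.presheaf.stalk (ptOf a)) • ⊤ := by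
        intro v _
        haveI := hP.bdd ((g : ℤ) + 1) (Or.inr (by omega))
        haveI : IsIso (P.iCycles (g : ℤ)) := P.isIso_iCycles (g : ℤ) ((g : ℤ) + 1) (by simp)
          ((ModuleCat.isZero_of_subsingleton (P.X ((g : ℤ) + 1))).eq_of_tgt _ _)
        have hex : (ShortComplex.mk _ _ (P.toCycles_comp_homologyπ ((g : ℤ) - 1) (g : ℤ))).Exact :=
          ShortComplex.exact_of_g_is_cokernel _ (P.homologyIsCokernel ((g : ℤ) - 1) (g : ℤ) (by simp))
        rw [ShortComplex.moduleCat_exact_iff] at hex
        obtain ⟨y, hy⟩ := hex ((inv (P.iCycles (g : ℤ))).hom v) (Subsingleton.elim (α := P.homology (g : ℤ)) _ _)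
        have h1 := congrArg (fun z => (P.iCycles (g : ℤ)).hom z) hy
        dsimp only at h1
        rw [← ConcreteCategory.comp_apply, P.toCycles_i, ← ConcreteCategory.comp_apply, IsIso.inv_hom_id] at h1
        change (P.d ((g : ℤ) - 1) (g : ℤ)).hom y = v at h1
        have h2 := hP.min ((g : ℤ) - 1) y
        rw [show (g : ℤ) - 1 + 1 = (g : ℤ) by omega, h1] at h2
        exact h2
      exact (bot_ne_top (α := Submodule (B.left.presheaf.stalk (ptOf a)) (P.X (g : ℤ))))
        (Submodule.eq_bot_of_le_smul_of_le_jacobson_bot _ _ Module.Finite.fg_top hall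
          (IsLocalRing.maximalIdeal_le_jacobson _)).symm
  refine ⟨fun p hp => CurveCohLib.isZero_of_subsingleton_stalks fun z => ?_, fun h => ?_⟩
  · by_cases hz : z ∈ bad α L
    · obtain ⟨a, -, rfl⟩ := hz
      exact (key a).1 p hp
    · exact subsingleton_stalk_family hL hLL hfin p hz
  · have h1 : (1 : Pt) ∈ fixSet α L := by
      show pl (α ≫ CubeAb.tr (1 : Pt)) (PicF.cl L) = pl α (PicF.cl L)
      rw [show CubeAb.tr (1 : Pt) = 𝟙 B from by
        show 𝟙 B * (toUnit B ≫ (1 : Pt)) = 𝟙 B
        rw [MonObj.comp_one, _root_.mul_one], Category.comp_id]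
    exact not_subsingleton_iff_nontrivial.2 ((key 1).2 h1)
      (ModuleCat.subsingleton_of_isZero (Functor.map_isZero (DerSch.stalkFunctor B.left (ptOf (1 : Pt))) h))

/-- Cohomology of a module with acyclic direct images. -/
theorem nonempty_HH_sections_of_acyclic {X S : Scheme.{u}} (f : X ⟶ S) [HasInjectiveResolutions X.Modules]
    {F : X.Modules} (hacyc : ∀ q p, Subsingleton (Coh.HH S ((Coh.Rpush f q).obj F) (p + 1))) (i : ℕ) :
    Nonempty (Coh.HH X F i ≃+ Γ((Coh.Rpush f i).obj F, ⊤)) := by
  have hiso : ∀ q, Nonempty ((CohTop.Rpush f.base q).obj (Coh.toAb F) ≅ Coh.toAb ((Coh.Rpush f q).obj F)) := by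
    intro q
    cases q with
    | zero =>
      obtain ⟨e⟩ := QCoh.nonempty_RpushAb_zero_iso f F
      haveI := QCoh.preservesFiniteLimits_push f
      exact ⟨e ≪≫ ((SheafOfModules.toSheaf S.ringCatSheaf).mapIso
        ((Scheme.Modules.pushforward f).rightDerivedZeroIsoSelf.app F).symm)⟩
    | succ n =>
      obtain ⟨e₁⟩ := QCoh.nonempty_RpushAb_iso f F n
      obtain ⟨e₂⟩ := QCoh.nonempty_Rpush_iso f F n
      exact ⟨e₁ ≪≫ ((SheafOfModules.toSheaf S.ringCatSheaf).mapIso e₂.symm)⟩
  obtain ⟨e⟩ := S0494.result f.base (Coh.toAb F) (fun p q => by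
    obtain ⟨j⟩ := hiso q
    exact AVTheta8.isZero_Rpush_of_finite_support.subsingleton_H_of_iso j.symm (p + 1) (hacyc q p)) i
  obtain ⟨j⟩ := hiso i
  exact ⟨e.trans (((sheafToPresheaf _ _).mapIso j).app (op ⊤)).addCommGroupIsoToAddEquiv⟩

/-- Cohomology of a module whose direct images are supported on finitely many closed points. -/
theorem nonempty_HH_sections {X S : Scheme.{u}} (f : X ⟶ S) [HasInjectiveResolutions X.Modules] {F : X.Modules}
    {T : Set S} (hT : T.Finite) (hTc : ∀ x ∈ T, IsClosed ({x} : Set S))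
    (hsupp : ∀ q z, z ∉ T → Subsingleton (((Coh.Rpush f q).obj F).presheaf.stalk z)) (i : ℕ) :
    Nonempty (Coh.HH X F i ≃+ Γ((Coh.Rpush f i).obj F, ⊤)) :=
  nonempty_HH_sections_of_acyclic f (fun q p => LerayEuler.subsingleton_HH_flasque
    (AVTheta8.isFlasqueMod_of_finite hT hTc fun V hV => by
      refine subsingleton_of_forall_eq 0 fun s => TopCat.Presheaf.section_ext
        (⟨((Coh.Rpush f q).obj F).presheaf, ((Coh.Rpush f q).obj F).isSheaf⟩ : TopCat.Sheaf _ _) V s 0 fun x hx => ?_
      haveI := hsupp q x fun e => Set.disjoint_left.1 hV hx e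
      exact Subsingleton.elim _ _) p) i

/-- **The cohomology of `μ^*L ⊗ pr₁^*L⁻¹`.** -/
theorem cohomology_family [HasInjectiveResolutions (A ⊗ B).left.Modules] (hL : PicF.IsInvertible L)
    (hLL : pl α (PicF.cl L) * PicF.cl L' = 1) (hfin : (fixSet α L).Finite) {g : ℕ} (hg : topologicalKrullDim A.left = g)
    (hgB : topologicalKrullDim B.left = g) :
    (∀ i, i ≠ g → Subsingleton (Coh.HH (A ⊗ B).left (family α L L') i)) ∧
      Nontrivial (Coh.HH (A ⊗ B).left (family α L L') g) := by
  obtain ⟨hz, hnz⟩ := rpush_family hL hLL hfin hg hgB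
  have hsec : ∀ i, Nonempty (Coh.HH (A ⊗ B).left (family α L L') i ≃+
      Γ((Coh.Rpush (snd A B).left i).obj (family α L L'), ⊤)) := fun i =>
    nonempty_HH_sections (snd A B).left (hfin.image ptOf)
      (fun x hx => by obtain ⟨a, -, rfl⟩ := hx; exact isClosed_ptOf a)
      (fun q z hz' => subsingleton_stalk_family hL hLL hfin q hz') i
  refine ⟨fun i hi => ?_, ?_⟩
  · haveI : Subsingleton Γ((Coh.Rpush (snd A B).left i).obj (family α L L'), ⊤) :=
      AVTheta8.vanAt_of_isZero_Rpush.subsingleton_of_isZero_mod (hz i hi) ⊤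
    exact (hsec i).some.toEquiv.subsingleton
  · by_contra hn
    rw [not_nontrivial_iff_subsingleton] at hn
    haveI := (hsec g).some.symm.toEquiv.subsingleton
    refine hnz (CurveCohLib.isZero_of_subsingleton_stalks fun z => ?_)
    refine subsingleton_of_forall_eq 0 fun w => ?_
    obtain ⟨V, hV, s, rfl⟩ := TopCat.Presheaf.exists_germ_eq _ w
    have hfl : QCoh.IsFlasqueMod ((Coh.Rpush (snd A B).left g).obj (family α L L')) :=
      AVTheta8.isFlasqueMod_of_finite (hfin.image ptOf)
        (fun x hx => by obtain ⟨a, -, rfl⟩ := hx; exact isClosed_ptOf a) fun V hV => by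
        refine subsingleton_of_forall_eq 0 fun s => TopCat.Presheaf.section_ext
          (⟨((Coh.Rpush (snd A B).left g).obj (family α L L')).presheaf,
            ((Coh.Rpush (snd A B).left g).obj (family α L L')).isSheaf⟩ : TopCat.Sheaf _ _) V s 0 fun x hx => ?_
        haveI := subsingleton_stalk_family hL hLL hfin g (fun e => Set.disjoint_left.1 hV hx e)
        exact Subsingleton.elim _ _
    obtain ⟨t, rfl⟩ := (AddCommGrpCat.epi_iff_surjective _).1 (hfl.epi (homOfLE (le_top : V ≤ ⊤)).op) s
    rw [Subsingleton.elim t 0, map_zero, map_zero]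

end Groth.Agent.AVIndex
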