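import Groth.Agent.AVIndex.Corner
import Groth.Agent.AVIndex.Mumford
import Groth.Agent.AVDualCx.KunnethEuler
import Groth.Agent.KFlatLib.Perfect.Tensor

/-!
# Non-degenerate modules have cohomology in one degree
-/

noncomputable section

set_option autoImplicit false
set_option linter.style.haveILetI false
set_option linter.unusedSectionVars false
set_option backward.isDefEq.respectTransparency false
set_option backward.isDefEq.respectTransparency.types false
set_option maxHeartbeats 1000000

universe u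

open CategoryTheory CategoryTheory.Limits MonoidalCategory CartesianMonoidalCategory MonObj AlgebraicGeometry TopologicalSpace Opposite IsLocalRing

namespace Groth.Agent.AVIndex

open Groth.Agent Groth.Agent.H23 Groth.Agent.H23.TrivBasic Groth.Agent.AVCube Groth.Agent.AVPair Groth.Agent.AVDualCx
open scoped Groth.Agent.H23.PicMul

variable {k : Type u} [Field k] [IsAlgClosed k] {A B : Over (Spec (CommRingCat.of k))} [GrpObj A] [IsProper A.hom]
  [GeometricallyIntegral A.hom] [GrpObj B] [IsProper B.hom] [GeometricallyIntegral B.hom]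

/-- The exterior product of `M` on `B` and `N` on `A`. -/
abbrev boxMod (M : B.left.Modules) (N : A.left.Modules) : (A ⊗ B).left.Modules :=
  CohB1.tensorMod ((Scheme.Modules.pullback (snd A B).left).obj M) ((Scheme.Modules.pullback (fst A B).left).obj N)

/-- The shear twisted by `α`. -/
def shearBy (α : A ⟶ B) : A ⊗ B ≅ A ⊗ B where
  hom := lift (fst A B) ((fst A B ≫ α) * snd A B)
  inv := lift (fst A B) ((fst A B ≫ α)⁻¹ * snd A B)
  hom_inv_id := by
    ext <;> simp [MonObj.comp_mul, GrpObj.comp_inv]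
  inv_hom_id := by
    ext <;> simp [MonObj.comp_mul, GrpObj.comp_inv]

/-- The cohomology of `L ⊠ α^*L⁻¹`, through the shear. -/
theorem cohomology_boxMod [HasInjectiveResolutions (A ⊗ B).left.Modules] {α : A ⟶ B} [IsMonHom α]
    {L : B.left.Modules} {L' : A.left.Modules} (hL : PicF.IsInvertible L)
    (hLL : pl α (PicF.cl L) * PicF.cl L' = 1) (hfin : (fixSet α L).Finite) {g : ℕ}
    (hg : topologicalKrullDim A.left = g) (hgB : topologicalKrullDim B.left = g) :
    (∀ i, i ≠ g → Subsingleton (Coh.HH (A ⊗ B).left (boxMod L L') i)) ∧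
      Nontrivial (Coh.HH (A ⊗ B).left (boxMod L L') g) := by
  let σ := shearBy α
  haveI : IsIso σ.hom.left := inferInstanceAs (IsIso ((Over.forget _).mapIso σ).hom)
  haveI : IsProper (A ⊗ B).hom := inferInstanceAs (IsProper (pullback.fst A.hom B.hom ≫ A.hom))
  have hB : PicF.IsInvertible (boxMod L L') := PicMul.isInvertible_tensor (PicClLib.isInvertible_pullback _ hL)
    (PicClLib.isInvertible_pullback _ (isInvertible_inverse_pull hL hLL))
  haveI : Coh.IsQCoh (boxMod L L') := QCoh.isQCoh_of_isFinLocFree (PullPush.isFinLocFree_of_isInvertible hB)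
  obtain ⟨e⟩ : Nonempty ((Scheme.Modules.pullback σ.hom.left).obj (boxMod L L') ≅ family α L L') :=
    PicMul.cl_eq_iff.1 (by
      show pl σ.hom (PicF.cl (boxMod L L')) = PicF.cl (family α L L')
      rw [show PicF.cl (boxMod L L') = pl (snd A B) (PicF.cl L) * pl (fst A B) (PicF.cl L') from PicMul.cl_tensor _ _,
        show PicF.cl (family α L L') = pl (addMap α) (PicF.cl L) * pl (fst A B) (PicF.cl L') from PicMul.cl_tensor _ _,
        map_mul, pl_pl, pl_pl, show σ.hom ≫ snd A B = addMap α by simp [σ, shearBy],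
        show σ.hom ≫ fst A B = fst A B by simp [σ, shearBy]])
  letI : (A ⊗ B).left.Over (Spec (CommRingCat.of k)) := ⟨(A ⊗ B).hom⟩
  haveI : IsProper ((A ⊗ B).left ↘ Spec (CommRingCat.of k)) := ‹IsProper (A ⊗ B).hom›
  obtain ⟨h1, h2⟩ := cohomology_family hL hLL hfin hg hgB
  refine ⟨fun i hi => (AVTheta8.subsingleton_HH_pullback_iff σ.hom.left (boxMod L L') i).1
    (subsingleton_HH_congr k e.symm i (h1 i hi)), ?_⟩
  by_contra hn
  rw [not_nontrivial_iff_subsingleton] at hn
  haveI := subsingleton_HH_congr k e g ((AVTheta8.subsingleton_HH_pullback_iff σ.hom.left (boxMod L L') g).2 hn)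
  exact not_subsingleton (Coh.HH (A ⊗ B).left (family α L L') g) inferInstance

/-- Sections of the free modules on a point. -/
theorem subsingleton_sections_free (n : ℕ) :
    Subsingleton Γ(FlatMod.freeMod (Spec (CommRingCat.of k)) n, ⊤) ↔ n = 0 := by
  letI : (Spec (CommRingCat.of k)).Over (Spec (CommRingCat.of k)) := ⟨𝟙 _⟩
  haveI : IsProper ((Spec (CommRingCat.of k)) ↘ Spec (CommRingCat.of k)) :=
    inferInstanceAs (IsProper (𝟙 (Spec (CommRingCat.of k))))
  obtain ⟨e, -⟩ := exists_equiv_sections (FlatMod.freeMod (Spec (CommRingCat.of k)) n)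
  haveI hfin : Module.Finite k (Coh.HH (Spec (CommRingCat.of k)) (FlatMod.freeMod (Spec (CommRingCat.of k)) n) 0) :=
    CurveCohLib.finite_HH (k := k) (CurveDeg.isCoh_of_isFinLocFree (KFlatLib.isFinLocFree_freeMod n)) 0
  have hd : Module.finrank k (Coh.HH (Spec (CommRingCat.of k)) (FlatMod.freeMod (Spec (CommRingCat.of k)) n) 0) = n := by
    have h := euler_free_spec (k := k) n
    rw [euler_structure_spec, _root_.mul_one, Euler.euler_eq_sum k _ 1 fun i hi => by
      obtain ⟨j, rfl⟩ : ∃ j, i = j + 1 := ⟨i - 1, by omega⟩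
      exact QCoh.subsingleton_HH_of_isAffine
        (QCoh.isQCoh_of_isFinLocFree (KFlatLib.isFinLocFree_freeMod n)) j] at h
    rw [Finset.sum_range_one, pow_zero, _root_.one_mul] at h
    exact_mod_cast h
  refine ⟨fun h => ?_, fun h => ?_⟩
  · haveI := h
    haveI := e.toEquiv.subsingleton
    exact hd.symm.trans Module.finrank_zero_of_subsingleton
  · haveI : Subsingleton (Coh.HH (Spec (CommRingCat.of k)) (FlatMod.freeMod (Spec (CommRingCat.of k)) n) 0) :=
      Module.finrank_zero_iff.1 (hd.trans h)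
    exact e.symm.toEquiv.subsingleton

/-- The second projection's direct images of an exterior product. -/
theorem exists_box_rank [HasInjectiveResolutions (A ⊗ B).left.Modules] {L : B.left.Modules} {L' : A.left.Modules}
    (hL : PicF.IsInvertible L) (hLi' : PicF.IsInvertible L') :
    ∃ n : ℕ → ℕ, (∀ q, Subsingleton (Coh.HH A.left L' q) ↔ n q = 0) ∧
      ∀ q p, Subsingleton (Coh.HH B.left ((Coh.Rpush (snd A B).left q).obj (boxMod L L')) p) ↔
        (n q = 0 ∨ Subsingleton (Coh.HH B.left L p)) := by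
  letI : A.left.Over (Spec (CommRingCat.of k)) := ⟨A.hom⟩
  haveI : IsProper (A.left ↘ Spec (CommRingCat.of k)) := ‹IsProper A.hom›
  letI : B.left.Over (Spec (CommRingCat.of k)) := ⟨B.hom⟩
  haveI : IsProper (B.left ↘ Spec (CommRingCat.of k)) := ‹IsProper B.hom›
  letI : (A ⊗ B).left.Over (Spec (CommRingCat.of k)) := ⟨(snd A B).left ≫ B.hom⟩
  let f : (A ⊗ B).left ⟶ B.left := (snd A B).left
  haveI : IsProper f := inferInstanceAs (IsProper (pullback.snd A.hom B.hom))
  haveI : IsProper ((A ⊗ B).left ↘ Spec (CommRingCat.of k)) := inferInstanceAs (IsProper (f ≫ B.hom))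
  haveI : IsLocallyNoetherian A.left := LocallyOfFiniteType.isLocallyNoetherian A.hom
  haveI : IsLocallyNoetherian B.left := LocallyOfFiniteType.isLocallyNoetherian B.hom
  haveI : HasInjectiveResolutions A.left.Modules := KFlatLib.hasInjectiveResolutions_modules
  haveI : HasInjectiveResolutions B.left.Modules := KFlatLib.hasInjectiveResolutions_modules
  haveI := CurveCohLib.isNoetherian_of_proper (k := k) (X := A.left)
  haveI := CurveCohLib.isNoetherian_of_proper (k := k) (X := B.left)
  haveI : A.left.IsSeparated := ⟨by rw [← terminal.comp_from A.hom]; infer_instance⟩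
  haveI : B.left.IsSeparated := ⟨by rw [← terminal.comp_from B.hom]; infer_instance⟩
  have hqL' : Coh.IsQCoh L' := QCoh.isQCoh_of_isFinLocFree (PullPush.isFinLocFree_of_isInvertible hLi')
  haveI : Flat A.hom := inferInstance
  haveI : LocallyOfFinitePresentation A.hom := inferInstance
  choose n hn using fun q => exists_iso_free_spec (AVTheta8.isFinLocFree_Rpush_field A.hom hLi' q)
  -- the cohomology of the inverse
  have hL'sec : ∀ q, Subsingleton (Coh.HH A.left L' q) ↔ n q = 0 := fun q => by
    haveI : Unique ↥(Spec (CommRingCat.of k)) := inferInstanceAs (Unique (PrimeSpectrum k))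
    obtain ⟨e⟩ := nonempty_HH_sections A.hom (F := L') (T := Set.univ) Set.finite_univ
      (fun x _ => by rw [show ({x} : Set _) = Set.univ from Set.ext fun y => by simp [Subsingleton.elim y x]]; exact isClosed_univ) (fun _ z hz => absurd (Set.mem_univ z) hz) q
    rw [← subsingleton_sections_free (k := k) (n q)]
    let e' := e.trans (((Scheme.Modules.toPresheaf _).mapIso (hn q).some).app (op ⊤)).addCommGroupIsoToAddEquiv
    exact ⟨fun h => (have := h; e'.symm.toEquiv.subsingleton), fun h => (
      haveI : Subsingleton (((Scheme.Modules.toPresheaf _).obj (FlatMod.freeMod (Spec (CommRingCat.of k)) (n q))).obj (op ⊤)) := h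
      e'.toEquiv.subsingleton)⟩
  -- the direct images of the exterior product
  have hR : ∀ q, Nonempty ((Coh.Rpush f q).obj (boxMod L L') ≅
      (DCoh.tensorBi.obj L).obj (FlatMod.freeMod B.left (n q))) := fun q => by
    let p₁ := pullback.fst A.hom B.hom
    haveI : Flat p₁ := inferInstanceAs (Flat (pullback.fst A.hom B.hom))
    haveI : PreservesFiniteLimits (Scheme.Modules.pullback p₁) := RGLib.Lim8.preservesFiniteLimits_pullback p₁
    haveI := FlatBC6.isIso_bcQ_flat (f := A.hom) (g := B.hom) (f' := f) (g' := p₁)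
      (IsPullback.of_hasPullback A.hom B.hom) hqL' q
    obtain ⟨e⟩ := KFlatLib.nonempty_rpush_tensor_finLocFree f ((Scheme.Modules.pullback p₁).obj L') L
      (PullPush.isFinLocFree_of_isInvertible hL) q
    exact ⟨e.symm ≪≫ (DCoh.tensorBi.obj L).mapIso
      ((asIso (CohBC.bcQ A.hom B.hom f p₁ (IsPullback.of_hasPullback A.hom B.hom).w q L')).symm ≪≫
        (Scheme.Modules.pullback B.hom).mapIso (hn q).some ≪≫ FrB.pullbackFreeIso B.hom (n q))⟩
  obtain ⟨u⟩ : Nonempty (CohB1.tensorMod L (Coh.structureModule B.left) ≅ L) :=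
    PicMul.cl_eq_iff.1 ((PicMul.cl_tensor L (Coh.structureModule B.left)).trans (_root_.mul_one _))
  have hRH : ∀ q p, Subsingleton (Coh.HH B.left ((Coh.Rpush f q).obj (boxMod L L')) p) ↔
      (n q = 0 ∨ Subsingleton (Coh.HH B.left L p)) := fun q p => by
    haveI : Module.Finite k (Coh.HH B.left ((DCoh.tensorBi.obj L).obj (Coh.structureModule B.left)) p) :=
      CurveCohLib.finite_HH (k := k) (AmpleVan.isCoh_invertible (PicMul.isInvertible_tensor hL InvX.isInvertible_structureModule)) p
    haveI : Module.Finite k (Coh.HH B.left ((DCoh.tensorBi.obj L).obj (FlatMod.freeMod B.left (n q))) p) :=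
      CurveCohLib.finite_HH (k := k) (CurveDeg.isCoh_of_isFinLocFree
        (KFlatLib.isFinLocFree_tensor (PullPush.isFinLocFree_of_isInvertible hL) (KFlatLib.isFinLocFree_freeMod (n q)))) p
    have h1 : Subsingleton (Coh.HH B.left ((Coh.Rpush f q).obj (boxMod L L')) p) ↔
        Module.finrank k (Coh.HH B.left ((DCoh.tensorBi.obj L).obj (FlatMod.freeMod B.left (n q))) p) = 0 := by
      rw [Module.finrank_zero_iff]
      exact ⟨subsingleton_HH_congr k (hR q).some p, subsingleton_HH_congr k (hR q).some.symm p⟩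
    rw [h1, VolLib.finrank_HH_free k (DCoh.tensorBi.obj L) (n q) p, mul_eq_zero, Module.finrank_zero_iff]
    exact or_congr Iff.rfl ⟨subsingleton_HH_congr k u p, subsingleton_HH_congr k u.symm p⟩
  exact ⟨n, hL'sec, hRH⟩

/-- **The corner argument**: an exterior product with cohomology in degree `g` only has concentrated factors. -/
theorem box_corner [HasInjectiveResolutions (A ⊗ B).left.Modules] {L : B.left.Modules} {L' : A.left.Modules}
    (hL : PicF.IsInvertible L) (hLi' : PicF.IsInvertible L') {g : ℕ} (hg : topologicalKrullDim A.left = g)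
    (hgB : topologicalKrullDim B.left = g) (hBz : ∀ i, i ≠ g → Subsingleton (Coh.HH (A ⊗ B).left (boxMod L L') i))
    (hBn : Nontrivial (Coh.HH (A ⊗ B).left (boxMod L L') g)) :
    ∃ i, i ≤ g ∧ (∀ j, j ≠ i → Subsingleton (Coh.HH B.left L j)) ∧ Nontrivial (Coh.HH B.left L i) ∧
      (∀ j, j ≠ g - i → Subsingleton (Coh.HH A.left L' j)) ∧ Nontrivial (Coh.HH A.left L' (g - i)) := by
  classical
  letI : A.left.Over (Spec (CommRingCat.of k)) := ⟨A.hom⟩
  haveI : IsProper (A.left ↘ Spec (CommRingCat.of k)) := ‹IsProper A.hom›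
  letI : B.left.Over (Spec (CommRingCat.of k)) := ⟨B.hom⟩
  haveI : IsProper (B.left ↘ Spec (CommRingCat.of k)) := ‹IsProper B.hom›
  letI : (A ⊗ B).left.Over (Spec (CommRingCat.of k)) := ⟨(snd A B).left ≫ B.hom⟩
  let f : (A ⊗ B).left ⟶ B.left := (snd A B).left
  haveI : IsProper f := inferInstanceAs (IsProper (pullback.snd A.hom B.hom))
  haveI : IsProper ((A ⊗ B).left ↘ Spec (CommRingCat.of k)) := inferInstanceAs (IsProper (f ≫ B.hom))
  haveI : IsLocallyNoetherian A.left := LocallyOfFiniteType.isLocallyNoetherian A.hom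
  haveI : IsLocallyNoetherian B.left := LocallyOfFiniteType.isLocallyNoetherian B.hom
  haveI : HasInjectiveResolutions A.left.Modules := KFlatLib.hasInjectiveResolutions_modules
  haveI : HasInjectiveResolutions B.left.Modules := KFlatLib.hasInjectiveResolutions_modules
  haveI := CurveCohLib.isNoetherian_of_proper (k := k) (X := A.left)
  haveI := CurveCohLib.isNoetherian_of_proper (k := k) (X := B.left)
  haveI : A.left.IsSeparated := ⟨by rw [← terminal.comp_from A.hom]; infer_instance⟩
  haveI : B.left.IsSeparated := ⟨by rw [← terminal.comp_from B.hom]; infer_instance⟩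
  have hqL' : Coh.IsQCoh L' := QCoh.isQCoh_of_isFinLocFree (PullPush.isFinLocFree_of_isInvertible hLi')
  haveI : Flat A.hom := inferInstance
  haveI : LocallyOfFinitePresentation A.hom := inferInstance
  obtain ⟨n, hL'sec, hRH⟩ := exists_box_rank hL hLi'
  have hLb : ∀ p, g < p → Subsingleton (Coh.HH B.left L p) := fun p hp =>
    Snapper.subsingleton_HH_of_dim_le hgB.le
      (QCoh.isQCoh_of_isFinLocFree (PullPush.isFinLocFree_of_isInvertible hL)) hp
  have hL'b : ∀ q, g < q → n q = 0 := fun q hq =>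
    (hL'sec q).1 (Snapper.subsingleton_HH_of_dim_le hg.le hqL' hq)
  -- non-vanishing
  have hex : (∃ q, n q ≠ 0) ∧ ∃ p, Nontrivial (Coh.HH B.left L p) := by
    by_contra hne
    have hall : ∀ q p, Subsingleton (Coh.HH B.left ((Coh.Rpush f q).obj (boxMod L L')) p) := fun q p => by
      rw [hRH]
      by_contra hh
      rw [not_or, not_subsingleton_iff_nontrivial] at hh
      exact hne ⟨⟨q, hh.1⟩, p, hh.2⟩
    obtain ⟨e⟩ := nonempty_HH_sections_of_acyclic f (F := boxMod L L') (fun q p => hall q (p + 1)) g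
    obtain ⟨e', -⟩ := exists_equiv_sections ((Coh.Rpush f g).obj (boxMod L L'))
    haveI := hall g 0
    haveI := (e.trans e'.symm).toEquiv.subsingleton
    exact not_subsingleton (Coh.HH (A ⊗ B).left (boxMod L L') g) inferInstance
  obtain ⟨⟨q₀, hq₀⟩, p₀, hp₀⟩ := hex
  let Q : Finset ℕ := (Finset.range (g + 1)).filter fun q => n q ≠ 0
  let P : Finset ℕ := (Finset.range (g + 1)).filter fun p => Nontrivial (Coh.HH B.left L p)
  have hQm : ∀ q, q ∈ Q ↔ n q ≠ 0 := fun q => by
    simp only [Q, Finset.mem_filter, Finset.mem_range]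
    exact ⟨fun h => h.2, fun h => ⟨Nat.lt_succ_of_le (not_lt.1 fun hlt => h (hL'b q hlt)), h⟩⟩
  have hBm : ∀ p, p ∈ P ↔ Nontrivial (Coh.HH B.left L p) := fun p => by
    simp only [P, Finset.mem_filter, Finset.mem_range]
    exact ⟨fun h => h.2, fun h => ⟨Nat.lt_succ_of_le (not_lt.1 fun hlt =>
      haveI := hLb p hlt; not_nontrivial (Coh.HH B.left L p) h), h⟩⟩
  have hQne : Q.Nonempty := ⟨q₀, (hQm q₀).2 hq₀⟩
  have hBne : P.Nonempty := ⟨p₀, (hBm p₀).2 hp₀⟩
  have hcorner : ∀ a b, n a ≠ 0 → Nontrivial (Coh.HH B.left L b) →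
      (∀ q, q < a → ∀ p, b < p → n q = 0 ∨ Subsingleton (Coh.HH B.left L p)) →
      (∀ q, a < q → ∀ p, p < b → n q = 0 ∨ Subsingleton (Coh.HH B.left L p)) → a + b = g := by
    intro a b ha hb hlo hhi
    by_contra hne
    haveI := hBz (a + b) hne
    refine not_nontrivial (Coh.HH (A ⊗ B).left (boxMod L L') (a + b)) (nontrivial_of_corner k f rfl _ a b ?_
      (fun q hq p hp => (hRH q p).2 (hlo q hq p hp)) (fun q hq p hp => (hRH q p).2 (hhi q hq p hp)))
    rw [← not_subsingleton_iff_nontrivial, hRH, not_or]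
    exact ⟨ha, not_subsingleton_iff_nontrivial.2 hb⟩
  have hsub : ∀ p, p ∉ P → Subsingleton (Coh.HH B.left L p) := fun p hp =>
    not_nontrivial_iff_subsingleton.1 fun h => hp ((hBm p).2 h)
  have hzero : ∀ q, q ∉ Q → n q = 0 := fun q hq => not_not.1 fun h => hq ((hQm q).2 h)
  have h1 := hcorner (Q.min' hQne) (P.min' hBne) ((hQm _).1 (Q.min'_mem hQne)) ((hBm _).1 (P.min'_mem hBne))
    (fun q hq _ _ => Or.inl (hzero q fun h => absurd (Q.min'_le q h) (not_le.2 hq)))
    (fun _ _ p hp => Or.inr (hsub p fun h => absurd (P.min'_le p h) (not_le.2 hp)))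
  have h2 := hcorner (Q.max' hQne) (P.max' hBne) ((hQm _).1 (Q.max'_mem hQne)) ((hBm _).1 (P.max'_mem hBne))
    (fun _ _ p hp => Or.inr (hsub p fun h => absurd (P.le_max' p h) (not_le.2 hp)))
    (fun q hq _ _ => Or.inl (hzero q fun h => absurd (Q.le_max' q h) (not_le.2 hq)))
  have hQle := Q.min'_le_max' hQne
  have hBle := P.min'_le_max' hBne
  refine ⟨P.min' hBne, by omega, fun j hj => hsub j fun h => hj ?_, (hBm _).1 (P.min'_mem hBne), fun j hj => ?_, ?_⟩
  · have := P.min'_le j h; have := P.le_max' j h; omega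
  · refine (hL'sec j).2 (hzero j fun h => hj ?_)
    have := Q.min'_le j h; have := Q.le_max' j h; omega
  · rw [show g - P.min' hBne = Q.min' hQne by omega, ← not_subsingleton_iff_nontrivial, hL'sec]
    exact (hQm _).1 (Q.min'_mem hQne)

/-- **The index theorem for a homomorphism.** -/
theorem exists_index_pull {α : A ⟶ B} [IsMonHom α] {L : B.left.Modules} {L' : A.left.Modules}
    (hL : PicF.IsInvertible L) (hLL : pl α (PicF.cl L) * PicF.cl L' = 1) (hfin : (fixSet α L).Finite) {g : ℕ}
    (hg : topologicalKrullDim A.left = g) (hgB : topologicalKrullDim B.left = g) :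
    ∃ i, i ≤ g ∧ (∀ j, j ≠ i → Subsingleton (Coh.HH B.left L j)) ∧ Nontrivial (Coh.HH B.left L i) ∧
      (∀ j, j ≠ g - i → Subsingleton (Coh.HH A.left L' j)) ∧ Nontrivial (Coh.HH A.left L' (g - i)) := by
  haveI : IsProper (snd A B).left := inferInstanceAs (IsProper (pullback.snd A.hom B.hom))
  haveI : IsLocallyNoetherian B.left := LocallyOfFiniteType.isLocallyNoetherian B.hom
  haveI : IsLocallyNoetherian (A ⊗ B).left := LocallyOfFiniteType.isLocallyNoetherian (snd A B).left
  haveI : HasInjectiveResolutions (A ⊗ B).left.Modules := KFlatLib.hasInjectiveResolutions_modules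
  obtain ⟨hBz, hBn⟩ := cohomology_boxMod hL hLL hfin hg hgB
  exact box_corner hL (isInvertible_inverse_pull hL hLL) hg hgB hBz hBn

/-- The translations fixing a class. -/
abbrev fixSet₀ (L : A.left.Modules) : Set (𝟙_ (Over (Spec (CommRingCat.of k))) ⟶ A) :=
  {a | pl (CubeAb.tr a) (PicF.cl L) = PicF.cl L}

theorem fixSet_id (L : A.left.Modules) : fixSet (𝟙 A) L = fixSet₀ L := by
  ext a
  show pl (𝟙 A ≫ CubeAb.tr a) (PicF.cl L) = pl (𝟙 A) (PicF.cl L) ↔ _
  rw [Category.id_comp, pl_id]
  rfl

/-- **The index theorem.** -/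
theorem exists_index {L L' : A.left.Modules} (hL : PicF.IsInvertible L) (hLL : PicF.cl L * PicF.cl L' = 1)
    (hfin : (fixSet₀ L).Finite) {g : ℕ} (hg : topologicalKrullDim A.left = g) :
    ∃ i, i ≤ g ∧ (∀ j, j ≠ i → Subsingleton (Coh.HH A.left L j)) ∧ Nontrivial (Coh.HH A.left L i) ∧
      (∀ j, j ≠ g - i → Subsingleton (Coh.HH A.left L' j)) ∧ Nontrivial (Coh.HH A.left L' (g - i)) :=
  exists_index_pull (α := 𝟙 A) hL (by rw [pl_id]; exact hLL) (by rw [fixSet_id]; exact hfin) hg hg

end Groth.Agent.AVIndex
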