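import Groth.Agent.LerayEuler.Main

/-!
# A corner of the Leray spectral sequence survives

Let `f : Y ⟶ X` be a morphism of proper schemes over a field, `G` coherent on `Y`, and `(a, b)` a bidegree with
`H^b(X, R^a f_* G) ≠ 0` such that `H^p(X, R^q f_* G) = 0` for `q < a, p > b` and for `q > a, p < b`.
Then `H^(a+b)(Y, G) ≠ 0`.
-/

set_option autoImplicit false
set_option linter.style.haveILetI false
set_option linter.unusedSectionVars false
set_option backward.isDefEq.respectTransparency false
set_option backward.isDefEq.respectTransparency.types false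
set_option maxHeartbeats 1000000

universe u

open CategoryTheory CategoryTheory.Limits AlgebraicGeometry TopologicalSpace Opposite
open Groth.Agent.PnCoh.Finite (mapLin deltaLin)
open Groth.Agent.QCoh (godQ God)

namespace Groth.Agent.AVIndex

open Groth.Agent Groth.Agent.LerayEuler

variable (k : Type u) [Field k] {X Y : Scheme.{u}} [X.Over (Spec (CommRingCat.of k))]
  [Y.Over (Spec (CommRingCat.of k))] [IsProper (X ↘ Spec (CommRingCat.of k))]
  [IsProper (Y ↘ Spec (CommRingCat.of k))] (f : Y ⟶ X)
  (hf : f ≫ (X ↘ Spec (CommRingCat.of k)) = Y ↘ Spec (CommRingCat.of k)) [HasInjectiveResolutions Y.Modules]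
  (G : Y.Modules)

include k in
theorem nontrivial_HH_congr {M N : X.Modules} (e : M ≅ N) (p : ℕ) (h : Nontrivial (Coh.HH X M p)) :
    Nontrivial (Coh.HH X N p) := by
  have := h
  refine Function.Injective.nontrivial (f := mapLin k e.hom p) fun x y hxy => ?_
  have h2 := congrArg (mapLin k e.inv p) hxy
  rwa [mapLin_comp k _ _ (𝟙 M) e.hom_inv_id, mapLin_comp k _ _ (𝟙 M) e.hom_inv_id,
    show ∀ z, mapLin k (𝟙 M) p z = z from fun z => by
      show Sheaf.H.map ((QCoh.toAbFunctor X).map (𝟙 M)) p z = z
      rw [CategoryTheory.Functor.map_id, Sheaf.H.map_id_apply],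
    show ∀ z, mapLin k (𝟙 M) p z = z from fun z => by
      show Sheaf.H.map ((QCoh.toAbFunctor X).map (𝟙 M)) p z = z
      rw [CategoryTheory.Functor.map_id, Sheaf.H.map_id_apply]] at h2

include k in
theorem subsingleton_HH_congr {M N : X.Modules} (e : M ≅ N) (p : ℕ) (h : Subsingleton (Coh.HH X M p)) :
    Subsingleton (Coh.HH X N p) := by
  by_contra hn
  rw [not_subsingleton_iff_nontrivial] at hn
  exact not_nontrivial (Coh.HH X M p) (nontrivial_HH_congr k e.symm p hn)

include k in
/-- The degree zero direct image is the first pushed Godement cokernel. -/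
theorem nonempty_F_zero : Nonempty ((Coh.Rpush f 0).obj G ≅ LerayEuler.F f G 0) := by
  haveI := SpObjSS.enoughInjectives_of_hasInjectiveResolutions (C := Y.Modules)
  haveI := QCoh.preservesFiniteLimits_push f
  exact ⟨(Scheme.Modules.pushforward f).rightDerivedZeroIsoSelf.app G⟩

theorem bijective_deltaA (n p : ℕ) : Function.Bijective (deltaLin k (sesA_shortExact f G n) (p + 1)) :=
  QCoh.Ab.connecting_bijective (X := X.toPresheafedSpace.carrier) (QCoh.toAb_shortExact (sesA_shortExact f G n))
    (p + 1) (subsingleton_HH_pushGod f _ p) (subsingleton_HH_pushGod f _ (p + 1))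

include k in
theorem subsingleton_X₁ (n p : ℕ) (h : Subsingleton (Coh.HH X (LerayEuler.F f G n) (p + 2))) :
    Subsingleton (Coh.HH X (sesB f G n).X₁ (p + 1)) :=
  have := h
  (bijective_deltaA k f G n p).1.subsingleton

include k in
/-- Below the corner the pushed cokernels have no high cohomology. -/
theorem subsingleton_F {a b : ℕ}
    (h : ∀ q, q < a → ∀ p, b < p → Subsingleton (Coh.HH X ((Coh.Rpush f q).obj G) p)) :
    ∀ n, n < a → ∀ p, b < p → Subsingleton (Coh.HH X (LerayEuler.F f G n) p) := by
  intro n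
  induction n with
  | zero => exact fun hn p hp => subsingleton_HH_congr k (nonempty_F_zero k f G).some p (h 0 hn p hp)
  | succ n ih =>
    intro hn p hp
    obtain ⟨p, rfl⟩ : ∃ p', p = p' + 1 := ⟨p - 1, by omega⟩
    exact QCoh.subsingleton_HH_X₂ (sesB_shortExact f G n) (p + 1)
      (subsingleton_X₁ k f G n p (ih (by omega) (p + 2) (by omega)))
      (subsingleton_HH_congr k (QCoh.nonempty_Rpush_iso f G n).some (p + 1) (h (n + 1) hn (p + 1) hp))

include k in
/-- At the corner the pushed cokernel maps onto the direct image. -/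
theorem nontrivial_F {a b : ℕ}
    (h : ∀ q, q < a → ∀ p, b < p → Subsingleton (Coh.HH X ((Coh.Rpush f q).obj G) p))
    (hne : Nontrivial (Coh.HH X ((Coh.Rpush f a).obj G) b)) :
    Nontrivial (Coh.HH X (LerayEuler.F f G a) b) := by
  cases a with
  | zero => exact nontrivial_HH_congr k (nonempty_F_zero k f G).some b hne
  | succ n =>
    have := nontrivial_HH_congr k (QCoh.nonempty_Rpush_iso f G n).some b hne
    haveI := subsingleton_X₁ k f G n b (subsingleton_F k f G h n (by omega) (b + 2) (by omega))
    refine Function.Surjective.nontrivial (f := mapLin k (sesB f G n).g b) fun x => ?_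
    have hx : x ∈ LinearMap.ker (deltaLin k (sesB_shortExact f G n) b) := Subsingleton.elim _ _
    rw [← Euler.range_mapLin_g k (sesB_shortExact f G n) b] at hx
    exact hx

include k hf in
/-- A nonzero first cohomology of a pushed cokernel gives a nonzero class upstairs. -/
theorem nontrivial_of_F_one (n : ℕ) (h : Nontrivial (Coh.HH X (LerayEuler.F f G n) 1)) :
    Nontrivial (Coh.HH Y G (n + 1)) := by
  have := h
  obtain ⟨z, hz⟩ := exists_ne (0 : Coh.HH X (LerayEuler.F f G n) 1)
  have hA := sesA_shortExact f G n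
  have hB := sesB_shortExact f G n
  have hzk : z ∈ LinearMap.ker (mapLin k (sesA f G n).f 1) :=
    @Subsingleton.elim _ (subsingleton_HH_pushGod f _ 0) _ _
  rw [← Euler.range_deltaLin k hA 0] at hzk
  obtain ⟨y, rfl⟩ := hzk
  obtain ⟨b, -, hker⟩ := exists_cls k f hf G (n + 1)
  refine ⟨⟨b (mapLin k (sesB f G n).f 0 y), 0, fun h0 => hz ?_⟩⟩
  obtain ⟨w, hw⟩ := (mem_bd_succ k f G n _).1 ((hker _).1 h0)
  have hfac : mapLin k (sesB f G n).f 0 (mapLin k (sesA f G n).g 0 w) = mapLin k (α f G n) 0 w :=
    mapLin_comp k _ _ _ (Abelian.image.fac _) 0 w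
  have he : y = mapLin k (sesA f G n).g 0 w :=
    LinearMap.ker_eq_bot.1 (Euler.ker_mapLin_f_zero k hB) (hw.symm.trans hfac.symm)
  have hy : y ∈ LinearMap.ker (deltaLin k hA 0) := by
    rw [← Euler.range_mapLin_g k hA 0]
    exact ⟨w, he.symm⟩
  exact hy

include k hf in
/-- A nonzero zeroth cohomology of the direct image gives a nonzero class upstairs. -/
theorem nontrivial_of_R_zero (a : ℕ) (hne : Nontrivial (Coh.HH X ((Coh.Rpush f a).obj G) 0))
    (h : ∀ q, q < a → ∀ p, 0 < p → Subsingleton (Coh.HH X ((Coh.Rpush f q).obj G) p)) :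
    Nontrivial (Coh.HH Y G a) := by
  cases a with
  | zero =>
    have := nontrivial_HH_congr k (nonempty_F_zero k f G).some 0 hne
    obtain ⟨x, hx⟩ := exists_ne (0 : Coh.HH X (LerayEuler.F f G 0) 0)
    obtain ⟨b, -, hker⟩ := exists_cls k f hf G 0
    refine ⟨⟨b x, 0, fun h0 => hx ?_⟩⟩
    have h' : sec f (godQ G 0) x = 0 := (Submodule.mem_bot _).1 ((hker x).1 h0)
    exact (bijective_sec f _).1 (h'.trans (map_zero (Sheaf.H.equiv₀ (Coh.toAb (LerayEuler.F f G 0)) isTerminalTop)).symm)
  | succ n =>
    have := nontrivial_HH_congr k (QCoh.nonempty_Rpush_iso f G n).some 0 hne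
    obtain ⟨r, hr⟩ := exists_ne (0 : Coh.HH X (sesB f G n).X₃ 0)
    haveI := subsingleton_X₁ k f G n 0 (subsingleton_F k f G h n (by omega) 2 (by omega))
    have hrk : r ∈ LinearMap.ker (deltaLin k (sesB_shortExact f G n) 0) := Subsingleton.elim _ _
    rw [← Euler.range_mapLin_g k (sesB_shortExact f G n) 0] at hrk
    obtain ⟨x, rfl⟩ := hrk
    obtain ⟨b, -, hker⟩ := exists_cls k f hf G (n + 1)
    refine ⟨⟨b x, 0, fun h0 => hr ?_⟩⟩
    obtain ⟨w, rfl⟩ := (mem_bd_succ k f G n x).1 ((hker x).1 h0)
    have hfac : mapLin k (sesB f G n).f 0 (mapLin k (sesA f G n).g 0 w) = mapLin k (α f G n) 0 w :=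
      mapLin_comp k _ _ _ (Abelian.image.fac _) 0 w
    rw [← hfac]
    have hm : mapLin k (sesB f G n).f 0 (mapLin k (sesA f G n).g 0 w) ∈
        LinearMap.range (mapLin k (sesB f G n).f 0) := ⟨_, rfl⟩
    rw [Euler.range_mapLin_f k (sesB_shortExact f G n) 0] at hm
    exact hm

include k hf in
/-- **A corner of the Leray spectral sequence survives.** -/
theorem nontrivial_of_corner (a b : ℕ) (hne : Nontrivial (Coh.HH X ((Coh.Rpush f a).obj G) b))
    (hlo : ∀ q, q < a → ∀ p, b < p → Subsingleton (Coh.HH X ((Coh.Rpush f q).obj G) p))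
    (hhi : ∀ q, a < q → ∀ p, p < b → Subsingleton (Coh.HH X ((Coh.Rpush f q).obj G) p)) :
    Nontrivial (Coh.HH Y G (a + b)) := by
  cases b with
  | zero => exact nontrivial_of_R_zero k f hf G a hne hlo
  | succ b =>
    have key : ∀ j, j ≤ b → Nontrivial (Coh.HH X (LerayEuler.F f G (a + j)) (b - j + 1)) := by
      intro j
      induction j with
      | zero => exact fun _ => nontrivial_F k f G hlo hne
      | succ j ih =>
        intro hj
        have := ih (by omega)
        obtain ⟨p, hp⟩ : ∃ p, b - (j + 1) + 1 = p + 1 ∧ b - j + 1 = p + 1 + 1 := ⟨b - (j + 1), rfl, by omega⟩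
        rw [hp.1]
        rw [hp.2] at this
        have h1 : Nontrivial (Coh.HH X (sesB f G (a + j)).X₁ (p + 1)) :=
          (bijective_deltaA k f G (a + j) p).2.nontrivial
        have h2 : Subsingleton (Coh.HH X (sesB f G (a + j)).X₃ p) :=
          subsingleton_HH_congr k (QCoh.nonempty_Rpush_iso f G (a + j)).some p
            (hhi (a + j + 1) (by omega) p (by omega))
        refine Function.Injective.nontrivial (f := mapLin k (sesB f G (a + j)).f (p + 1)) ?_
        refine LinearMap.ker_eq_bot.1 ?_
        rw [← Euler.range_deltaLin k (sesB_shortExact f G (a + j)) p, LinearMap.range_eq_bot]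
        exact LinearMap.ext fun x => by rw [Subsingleton.elim x 0, map_zero, LinearMap.zero_apply]
    have hb := key b le_rfl
    rw [Nat.sub_self] at hb
    exact nontrivial_of_F_one k f hf G (a + b) hb

end Groth.Agent.AVIndex
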