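import Groth.Agent.AVIndex.Field
import Groth.Agent.AVEuler.Isogeny
import Groth.Agent.AVTheta8.Dual
import Groth.Agent.S4717

/-!
# The index is unchanged by isogenies
-/

noncomputable section

set_option autoImplicit false
set_option linter.style.haveILetI false
set_option linter.unusedSectionVars false
set_option backward.isDefEq.respectTransparency false
set_option backward.isDefEq.respectTransparency.types false
set_option maxHeartbeats 1000000

universe u

open CategoryTheory CategoryTheory.Limits MonoidalCategory CartesianMonoidalCategory MonObj AlgebraicGeometry TopologicalSpace IsLocalRing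

namespace Groth.Agent.AVIndex

open Groth.Agent Groth.Agent.H23 Groth.Agent.H23.TrivBasic Groth.Agent.AVCube Groth.Agent.AVPair Groth.Agent.AVDualCx
open scoped Groth.Agent.H23.PicMul

variable {k : Type u} [Field k] [IsAlgClosed k] {A B : Over (Spec (CommRingCat.of k))} [GrpObj A] [IsProper A.hom]
  [GeometricallyIntegral A.hom] [GrpObj B] [IsProper B.hom] [GeometricallyIntegral B.hom]

/-- Every rational point lifts along a surjective map. -/
theorem exists_lift_pt (f : A ⟶ B) [Surjective f.left] (y : 𝟙_ (Over (Spec (CommRingCat.of k))) ⟶ B) :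
    ∃ a : 𝟙_ (Over (Spec (CommRingCat.of k))) ⟶ A, a ≫ f = y := by
  haveI : JacobsonSpace A.left := LocallyOfFiniteType.jacobsonSpace A.hom
  have hs : IsClosed (f.left ⁻¹' {y.left (closedPoint k)} : Set A.left) :=
    (isClosed_ptOf y).preimage f.left.continuous
  obtain ⟨x0, hx0⟩ := f.left.surjective (y.left (closedPoint k))
  obtain ⟨x, hx, hxc⟩ := nonempty_inter_closedPoints ⟨x0, hx0⟩ hs.isLocallyClosed
  obtain ⟨a, ha⟩ := AVAmple.exists_pt (mem_closedPoints_iff.1 hxc)
  refine ⟨a, Over.OverMorphism.ext (ext_of_apply_closedPoint_eq B.hom (Over.w _) (Over.w y) ?_)⟩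
  show f.left (a.left (closedPoint k)) = y.left (closedPoint k)
  exact (congrArg f.left ha).trans hx

/-- An isogeny has a constant positive degree. -/
theorem exists_deg (f : A ⟶ B) [IsFinite f.left] [Flat f.left] [Surjective f.left] :
    ∃ d : ℕ, 0 < d ∧ ∀ y : ↥B.left, Scheme.Hom.finrank f.left y = d := by
  haveI : IsIntegral B.left := GeometricallyIntegral.isIntegral_of_subsingleton B.hom
  haveI : IsLocallyNoetherian B.left := LocallyOfFiniteType.isLocallyNoetherian B.hom
  haveI : LocallyOfFinitePresentation f.left := inferInstance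
  obtain ⟨y⟩ : Nonempty B.left := inferInstance
  refine ⟨Scheme.Hom.finrank f.left y, ?_, fun z => (f.left.isLocallyConstant_finrank).apply_eq_of_preconnectedSpace z y⟩
  obtain ⟨x, rfl⟩ := f.left.surjective y
  exact Scheme.Hom.one_le_finrank_map f.left x

/-- A non-degenerate module has non-zero Euler characteristic. -/
theorem euler_ne_zero {L : A.left.Modules} (hL : PicF.IsInvertible L) (hfin : (fixSet₀ L).Finite) :
    @Curv2.euler k _ A.left ⟨A.hom⟩ L ≠ 0 := by
  letI : A.left.Over (Spec (CommRingCat.of k)) := ⟨A.hom⟩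
  haveI : IsProper (A.left ↘ Spec (CommRingCat.of k)) := ‹IsProper A.hom›
  haveI := CurveCohLib.isNoetherian_of_proper (k := k) (X := A.left)
  haveI : IsIntegral A.left := GeometricallyIntegral.isIntegral_of_subsingleton A.hom
  obtain ⟨g, hg⟩ : ∃ g : ℕ, topologicalKrullDim A.left = g :=
    ⟨_, VarDim.topologicalKrullDim_eq_deg_genericPoint A.hom⟩
  obtain ⟨D, hD, ⟨u⟩⟩ := H23.PicInv.exists_inverse hL
  have hLD : PicF.cl L * PicF.cl D = 1 := by
    rw [← PicMul.cl_tensor, PicMul.one_def]; exact PicMul.cl_eq_iff.2 ⟨u⟩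
  obtain ⟨i, hi, hv, hn, -, -⟩ := exists_index hL hLD hfin hg
  haveI : Module.Finite k (Coh.HH A.left L i) := CurveCohLib.finite_HH (k := k) (AmpleVan.isCoh_invertible hL) i
  rw [Euler.euler_eq_sum k L (i + 1) (fun j hj => hv j (by omega)),
    Finset.sum_eq_single i (fun j _ hj => by
      haveI := hv j hj
      rw [Module.finrank_zero_of_subsingleton, Nat.cast_zero, mul_zero])
    (fun h => absurd (Finset.self_mem_range_succ i) h)]
  refine mul_ne_zero (pow_ne_zero i (by norm_num)) ?_
  exact_mod_cast (Module.finrank_pos : 0 < Module.finrank k (Coh.HH A.left L i)).ne'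

variable (f : A ⟶ B) [IsMonHom f] [IsFinite f.left] [Flat f.left] [Surjective f.left] {L : B.left.Modules}

/-- The pullback of a non-degenerate module along an isogeny is non-degenerate. -/
theorem finite_fixSet₀_pull (hL : PicF.IsInvertible L) (hfin : (fixSet₀ L).Finite) :
    (fixSet₀ ((Scheme.Modules.pullback f.left).obj L)).Finite := by
  haveI : IsLocallyNoetherian B.left := LocallyOfFiniteType.isLocallyNoetherian B.hom
  by_contra h
  have hL' : PicF.IsInvertible ((Scheme.Modules.pullback f.left).obj L) := PicClLib.isInvertible_pullback _ hL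
  have h0 := AVTheta8.euler_eq_zero_of_degenerate hL'
    (Set.Infinite.mono (fun x hx => PicMul.cl_eq_iff.1 hx) h)
  obtain ⟨d, hd0, hd⟩ := exists_deg f
  rw [AVEuler.euler_pullback f d hd L (AmpleVan.isCoh_invertible hL)] at h0
  exact euler_ne_zero hL hfin ((mul_eq_zero.1 h0).resolve_left (by exact_mod_cast hd0.ne'))

theorem finite_fixSet_pull (hL : PicF.IsInvertible L) (hfin : (fixSet₀ L).Finite) : (fixSet f L).Finite := by
  refine ((finite_fixSet₀_pull f hL hfin).image (· ≫ f)).subset fun y hy => ?_
  obtain ⟨a, rfl⟩ := exists_lift_pt f y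
  refine ⟨a, ?_, rfl⟩
  show pl (CubeAb.tr a) (pl f (PicF.cl L)) = pl f (PicF.cl L)
  rw [pl_pl, AVTheta8.tr_comp]
  exact hy

/-- **Isogenies preserve the index.** -/
theorem index_pull (hL : PicF.IsInvertible L) (hfin : (fixSet₀ L).Finite) (j : ℕ) :
    Subsingleton (Coh.HH B.left L j) ↔ Subsingleton (Coh.HH A.left ((Scheme.Modules.pullback f.left).obj L) j) := by
  haveI : IsIntegral A.left := GeometricallyIntegral.isIntegral_of_subsingleton A.hom
  haveI : IsLocallyNoetherian A.left := LocallyOfFiniteType.isLocallyNoetherian A.hom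
  haveI : IsLocallyNoetherian B.left := LocallyOfFiniteType.isLocallyNoetherian B.hom
  obtain ⟨g, hgB⟩ : ∃ g : ℕ, topologicalKrullDim B.left = g :=
    haveI : IsIntegral B.left := GeometricallyIntegral.isIntegral_of_subsingleton B.hom
    ⟨_, VarDim.topologicalKrullDim_eq_deg_genericPoint B.hom⟩
  have hg : topologicalKrullDim A.left = g := ((S4717.result f.left).2 f.left.surjective).trans hgB
  have hM : PicF.IsInvertible ((Scheme.Modules.pullback f.left).obj L) := PicClLib.isInvertible_pullback _ hL
  obtain ⟨D, hD, ⟨u⟩⟩ := H23.PicInv.exists_inverse hM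
  have hLD : pl f (PicF.cl L) * PicF.cl D = 1 := by
    show PicF.cl ((Scheme.Modules.pullback f.left).obj L) * PicF.cl D = 1
    rw [← PicMul.cl_tensor, PicMul.one_def]; exact PicMul.cl_eq_iff.2 ⟨u⟩
  obtain ⟨i, hi, hv, hn, -, hnD⟩ := exists_index_pull hL hLD (finite_fixSet_pull f hL hfin) hg hgB
  obtain ⟨i', hi', hv', hn', hvD', -⟩ := exists_index hM hLD (finite_fixSet₀_pull f hL hfin) hg
  obtain rfl : i' = i := by
    by_contra hne
    exact not_subsingleton_iff_nontrivial.2 hnD (hvD' (g - i) (by omega))
  by_cases hj : j = i'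
  · subst hj
    exact ⟨fun h => absurd h (not_subsingleton_iff_nontrivial.2 hn),
      fun h => absurd h (not_subsingleton_iff_nontrivial.2 hn')⟩
  · exact ⟨fun _ => hv' j hj, fun _ => hv j hj⟩

section AnyField

variable {k : Type u} [Field k] {X Y : Over (Spec (CommRingCat.of k))} [GrpObj X] [IsProper X.hom]
  [GeometricallyIntegral X.hom] [GrpObj Y] [IsProper Y.hom] [GeometricallyIntegral Y.hom] (f : X ⟶ Y) [IsMonHom f]
  [IsFinite f.left] [Flat f.left] [Surjective f.left] {L : Y.left.Modules}

/-- Isogenies preserve concentration, over any field. -/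
theorem concentrated_pull (hL : PicF.IsInvertible L) {i : ℕ} (hvan : ∀ j, j ≠ i → Subsingleton (Coh.HH Y.left L j))
    (hne : Nontrivial (Coh.HH Y.left L i)) :
    (∀ j, j ≠ i → Subsingleton (Coh.HH X.left ((Scheme.Modules.pullback f.left).obj L) j)) ∧
      Nontrivial (Coh.HH X.left ((Scheme.Modules.pullback f.left).obj L) i) := by
  let t := clMap k
  haveI : IsProper (Red.bc t X).hom := (BcComp.isAV_bc t X).1
  haveI : GeometricallyIntegral (Red.bc t X).hom := (BcComp.isAV_bc t X).2
  haveI : IsProper (Red.bc t Y).hom := (BcComp.isAV_bc t Y).1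
  haveI : GeometricallyIntegral (Red.bc t Y).hom := (BcComp.isAV_bc t Y).2
  let f' : Red.bc t X ⟶ Red.bc t Y := (Over.pullback t).map f
  haveI : IsMonHom f' := BcComp.isMonHom_bc_map t f
  haveI : IsFinite f'.left := MorphismProperty.baseChange_map (P := @IsFinite) t f ‹_›
  haveI : Flat f'.left := MorphismProperty.baseChange_map (P := @Flat) t f ‹_›
  haveI : Surjective f'.left := MorphismProperty.baseChange_map (P := @Surjective) t f ‹_›
  have hc : f'.left ≫ prj t Y = prj t X ≫ f.left := pullback.lift_fst _ _ _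
  let Lb := (Scheme.Modules.pullback (prj t Y)).obj L
  have hLb : PicF.IsInvertible Lb := PicClLib.isInvertible_pullback _ hL
  have hfL : PicF.IsInvertible ((Scheme.Modules.pullback f.left).obj L) := PicClLib.isInvertible_pullback _ hL
  letI : (Red.bc t X).left.Over (Spec (CommRingCat.of (AlgebraicClosure k))) := ⟨(Red.bc t X).hom⟩
  haveI : IsProper ((Red.bc t X).left ↘ Spec (CommRingCat.of (AlgebraicClosure k))) := ‹IsProper (Red.bc t X).hom›
  have hfin : (fixSet₀ Lb).Finite := finite_fixSet_of_concentrated hLb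
    (fun j hj => (subsingleton_HH_bar_iff hL j).2 (hvan j hj))
    (not_subsingleton_iff_nontrivial.1 fun h => not_subsingleton_iff_nontrivial.2 hne ((subsingleton_HH_bar_iff hL i).1 h))
  let e : (Scheme.Modules.pullback f'.left).obj Lb ≅
      (Scheme.Modules.pullback (prj t X)).obj ((Scheme.Modules.pullback f.left).obj L) :=
    (Scheme.Modules.pullbackComp f'.left (prj t Y)).app L ≪≫ (Scheme.Modules.pullbackCongr hc).app L ≪≫
      ((Scheme.Modules.pullbackComp (prj t X) f.left).app L).symm
  have key : ∀ j, Subsingleton (Coh.HH X.left ((Scheme.Modules.pullback f.left).obj L) j) ↔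
      Subsingleton (Coh.HH Y.left L j) := fun j => by
    rw [← subsingleton_HH_bar_iff hfL j, ← subsingleton_HH_bar_iff hL j, index_pull f' hLb hfin j]
    exact ⟨subsingleton_HH_congr (AlgebraicClosure k) e.symm j, subsingleton_HH_congr (AlgebraicClosure k) e j⟩
  exact ⟨fun j hj => (key j).2 (hvan j hj),
    not_subsingleton_iff_nontrivial.1 fun h => not_subsingleton_iff_nontrivial.2 hne ((key i).1 h)⟩

end AnyField

end Groth.Agent.AVIndex
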