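import Groth.Agent.AVIndex.Isogeny
import Groth.Agent.AVTheta8.AlgEq
import Groth.Agent.AVDegLib.MulN
import Groth.Agent.H23.MaxAbelian

/-!
# The index of tensor powers
-/

noncomputable section

set_option autoImplicit false
set_option linter.style.haveILetI false
set_option linter.unusedSectionVars false
set_option backward.isDefEq.respectTransparency false
set_option backward.isDefEq.respectTransparency.types false
set_option maxHeartbeats 1000000

universe u

open CategoryTheory CategoryTheory.Limits MonoidalCategory CartesianMonoidalCategory MonObj AlgebraicGeometry TopologicalSpace IsLocalRing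

namespace Groth.Agent.AVIndex

open Groth.Agent Groth.Agent.H23 Groth.Agent.H23.TrivBasic Groth.Agent.AVCube Groth.Agent.AVPair Groth.Agent.AVDualCx Groth.Agent.AVTheta8
open scoped Groth.Agent.H23.PicMul

variable {k : Type u} [Field k] [IsAlgClosed k] {A B : Over (Spec (CommRingCat.of k))} [GrpObj A] [IsProper A.hom]
  [GeometricallyIntegral A.hom] [GrpObj B] [IsProper B.hom] [GeometricallyIntegral B.hom]

local notation "Pt" => 𝟙_ (Over (Spec (CommRingCat.of k))) ⟶ A

theorem mem_fixSet₀_iff {M : A.left.Modules} (hM : PicF.IsInvertible M) (a : Pt) :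
    a ∈ fixSet₀ M ↔ delta hM a = 1 := (delta_eq_one hM a).symm

/-- Translation differences of a product. -/
theorem delta_of_mul {M N P : A.left.Modules} (hM : PicF.IsInvertible M) (hN : PicF.IsInvertible N)
    (hP : PicF.IsInvertible P) (h : PicF.cl P = PicF.cl M * PicF.cl N) (a : Pt) :
    delta hP a = delta hM a * delta hN a := by
  have e : ∀ f : A ⟶ A, pc hP f = pc hM f * pc hN f := fun f => Units.ext (by
    show pl f (PicF.cl P) = pl f (PicF.cl M) * pl f (PicF.cl N)
    rw [h, map_mul])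
  rw [delta, delta, delta, e, e, mul_div_mul_comm]

theorem delta_tensorPow {M : A.left.Modules} (hM : PicF.IsInvertible M) (n : ℕ) (a : Pt) :
    delta (PicMul.isInvertible_tensorPow hM n) a = delta hM a ^ n := by
  have e : ∀ f : A ⟶ A, pc (PicMul.isInvertible_tensorPow hM n) f = pc hM f ^ n := fun f => Units.ext (by
    rw [Units.val_pow_eq_pow_val]
    show pl f (PicF.cl (CohB1.tensorPow M n)) = pl f (PicF.cl M) ^ n
    rw [PicMul.cl_tensorPow, map_pow])
  rw [delta, delta, e, e, div_pow]

/-- Pullback of an additive class along a power of a map. -/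
theorem pl_pow_of_additive {c : PicF.Cl A.left} (hc : CubeAb.IsAdditive c) {T : Over (Spec (CommRingCat.of k))}
    (f : T ⟶ A) : ∀ n : ℕ, 1 ≤ n → CubeAb.F c (f ^ n) = CubeAb.F c f ^ n := by
  intro n hn
  induction n, hn using Nat.le_induction with
  | base => rw [pow_one, pow_one]
  | succ n _ ih => rw [pow_succ, hc.apply, ih, pow_succ]

/-- Translation differences of `[m]^*L`. -/
theorem delta_mulPow {M : A.left.Modules} (hM : PicF.IsInvertible M) (m : ℕ) (hm : 1 ≤ m) (a : Pt) :
    delta (PicClLib.isInvertible_pullback (𝟙 A ^ m : A ⟶ A).left hM) a = delta hM a ^ (m ^ 2) := by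
  haveI := AVDegLib.isMonHom_pow (A := A) m
  refine (delta_pullback _ hM a).trans ?_
  rw [show a ≫ (𝟙 A ^ m : A ⟶ A) = a ^ m by rw [MonObj.comp_pow, Category.comp_id], delta_pow, map_pow]
  have h1 : Units.map (PicMul.pullHom (𝟙 A ^ m : A ⟶ A).left : PicF.Cl A.left →* PicF.Cl A.left) (delta hM a) =
      delta hM a ^ m := by
    ext
    rw [Units.val_pow_eq_pow_val, ← F_units]
    exact (pl_pow_of_additive (isAdditive_delta hM a) (𝟙 A) m hm).trans (by
      rw [show CubeAb.F _ (𝟙 A) = _ from pl_id _])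
  rw [h1, ← pow_mul, pow_two]

/-- Powers of a non-degenerate module are non-degenerate. -/
theorem finite_fixSet₀_pow {M : A.left.Modules} (hM : PicF.IsInvertible M) (hfin : (fixSet₀ M).Finite) (m : ℕ)
    (hm : 1 ≤ m) : (fixSet₀ (CohB1.tensorPow M m)).Finite := by
  haveI := AVDegLib.isMonHom_pow (A := A) m
  haveI := AVMulN.isFinite_pow (A := A) m hm
  haveI := AVMulN.surjective_pow (A := A) m hm
  haveI := AVDegLib.flat_pow (A := A) m hm
  refine (finite_fixSet₀_pull (𝟙 A ^ m : A ⟶ A) hM hfin).subset fun a ha => ?_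
  rw [mem_fixSet₀_iff (PicClLib.isInvertible_pullback _ hM), delta_mulPow hM m hm, pow_two, pow_mul,
    ← delta_tensorPow hM m a, (mem_fixSet₀_iff (PicMul.isInvertible_tensorPow hM m) a).1 ha, _root_.one_pow]

/-- Modules with the same translation differences have the same index. -/
theorem subsingleton_iff_of_delta {M N : A.left.Modules} (hM : PicF.IsInvertible M) (hN : PicF.IsInvertible N)
    (hfin : (fixSet₀ M).Finite) (h : ∀ b : Pt, delta hM b = delta hN b) (j : ℕ) :
    Subsingleton (Coh.HH A.left M j) ↔ Subsingleton (Coh.HH A.left N j) := by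
  haveI : IsCommMonObj A := isCommMonObj_of_isProper_of_geometricallyIntegral A
  let u : (PicF.Cl A.left)ˣ := pc hN (𝟙 A) / pc hM (𝟙 A)
  obtain ⟨P, hPcl, hP⟩ : PicF.IsInvertibleCl (u : PicF.Cl A.left) := by
    simp only [u, div_eq_mul_inv, Units.val_mul]
    exact PicMul.isInvertibleCl_mul (PicClLib.isInvertibleCl_pullCl _ ⟨N, rfl, hN⟩)
      (isInvertibleCl_units (PicClLib.isInvertibleCl_pullCl _ ⟨M, rfl, hM⟩))
  have hinv : ∀ b : Pt, CubeAb.F (PicF.cl P) (CubeAb.tr b) = PicF.cl P := fun b => by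
    rw [hPcl, show CubeAb.F _ (CubeAb.tr b) = _ from F_units (CubeAb.tr b) _]
    congr 1
    simp only [u, map_div, pull_pc, Category.comp_id]
    exact div_eq_div_iff_div_eq_div.2 (h b).symm
  obtain ⟨a, ha⟩ := exists_translate hM hP hinv hfin
  have hcl : PicF.cl ((Scheme.Modules.pullback (CubeAb.tr a).left).obj M) = PicF.cl N := by
    refine ha.trans ?_
    rw [hPcl, ← val_pc_id hM, ← val_pc_id hN, ← Units.val_mul]
    simp only [u, div_mul_cancel]
  obtain ⟨e⟩ := PicMul.cl_eq_iff.1 hcl
  haveI : IsIso (CubeAb.tr a) := ⟨CubeAb.tr a⁻¹, by rw [AVAmple.tr_tr, mul_inv_cancel, AVAmple.tr_one],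
    by rw [AVAmple.tr_tr, inv_mul_cancel, AVAmple.tr_one]⟩
  haveI : IsIso (CubeAb.tr a).left := (Over.forget _).map_isIso (CubeAb.tr a)
  letI : A.left.Over (Spec (CommRingCat.of k)) := ⟨A.hom⟩
  haveI : IsProper (A.left ↘ Spec (CommRingCat.of k)) := ‹IsProper A.hom›
  haveI : Coh.IsQCoh M := QCoh.isQCoh_of_isFinLocFree (PullPush.isFinLocFree_of_isInvertible hM)
  rw [← subsingleton_HH_pullback_iff (CubeAb.tr a).left M j]
  exact ⟨subsingleton_HH_congr k e j, subsingleton_HH_congr k e.symm j⟩

theorem isProper_tensor : IsProper (A ⊗ B).hom :=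
  inferInstanceAs (IsProper (pullback.fst A.hom B.hom ≫ A.hom))

theorem delta_box {M : B.left.Modules} {N : A.left.Modules} (hM : PicF.IsInvertible M) (hN : PicF.IsInvertible N)
    [IsProper (A ⊗ B).hom] [GeometricallyIntegral (A ⊗ B).hom] (hMN : PicF.IsInvertible (boxMod M N))
    (c : 𝟙_ (Over (Spec (CommRingCat.of k))) ⟶ A ⊗ B) :
    delta hMN c = Units.map (PicMul.pullHom (snd A B).left : PicF.Cl B.left →* PicF.Cl (A ⊗ B).left) (delta hM (c ≫ snd A B)) *
      Units.map (PicMul.pullHom (fst A B).left : PicF.Cl A.left →* PicF.Cl (A ⊗ B).left) (delta hN (c ≫ fst A B)) := by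
  rw [← delta_pullback (snd A B) hM c, ← delta_pullback (fst A B) hN c]
  exact delta_of_mul _ _ hMN (PicMul.cl_tensor _ _) c

theorem finite_fixSet₀_box {M : B.left.Modules} {N : A.left.Modules} (hM : PicF.IsInvertible M)
    (hN : PicF.IsInvertible N) [IsProper (A ⊗ B).hom] [GeometricallyIntegral (A ⊗ B).hom]
    (hfM : (fixSet₀ M).Finite) (hfN : (fixSet₀ N).Finite) : (fixSet₀ (boxMod M N)).Finite := by
  have hMN : PicF.IsInvertible (boxMod M N) :=
    PicMul.isInvertible_tensor (PicClLib.isInvertible_pullback _ hM) (PicClLib.isInvertible_pullback _ hN)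
  refine ((hfN.prod hfM).preimage (f := fun c : 𝟙_ (Over (Spec (CommRingCat.of k))) ⟶ A ⊗ B =>
    (c ≫ fst A B, c ≫ snd A B)) ?_).subset fun c hc => ?_
  · intro c _ c' _ h
    obtain ⟨h1, h2⟩ := Prod.mk.inj h
    exact CartesianMonoidalCategory.hom_ext _ _ h1 h2
  · have h1 := (delta_box hM hN hMN c).symm.trans ((mem_fixSet₀_iff hMN c).1 hc)
    refine ⟨(mem_fixSet₀_iff hN _).2 ?_, (mem_fixSet₀_iff hM _).2 ?_⟩
    · have h2 := congrArg (Units.map (PicMul.pullHom (lift (𝟙 A) (toUnit A ≫ η[B])).left :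
        PicF.Cl (A ⊗ B).left →* PicF.Cl A.left)) h1
      simp only [map_mul, map_one, delta, map_div, pull_pc, ← Category.assoc, lift_fst, lift_snd,
        Category.id_comp, Category.comp_id] at h2
      rw [show pc hM ((toUnit A ≫ η[B]) ≫ CubeAb.tr (c ≫ snd A B)) / pc hM (toUnit A ≫ η[B]) = 1 from by
        rw [Category.assoc, AVTheta8.pc_const hM, AVTheta8.pc_const hM, div_self'], _root_.one_mul] at h2
      rw [delta]
      simpa using h2
    · have h2 := congrArg (Units.map (PicMul.pullHom (lift (toUnit B ≫ η[A]) (𝟙 B)).left :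
        PicF.Cl (A ⊗ B).left →* PicF.Cl B.left)) h1
      simp only [map_mul, map_one, delta, map_div, pull_pc, ← Category.assoc, lift_fst, lift_snd,
        Category.id_comp, Category.comp_id] at h2
      rw [show pc hN ((toUnit B ≫ η[A]) ≫ CubeAb.tr (c ≫ fst A B)) / pc hN (toUnit B ≫ η[A]) = 1 from by
        rw [Category.assoc, AVTheta8.pc_const hN, AVTheta8.pc_const hN, div_self'], _root_.mul_one] at h2
      rw [delta]
      simpa using h2

/-- The index of an exterior product. -/
theorem index_box {M : B.left.Modules} {N : A.left.Modules} (hM : PicF.IsInvertible M) (hN : PicF.IsInvertible N)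
    [IsProper (A ⊗ B).hom] [GeometricallyIntegral (A ⊗ B).hom] [GrpObj (A ⊗ B)]
    (hfin : (fixSet₀ (boxMod M N)).Finite) {i j : ℕ} (hMv : ∀ l, l ≠ i → Subsingleton (Coh.HH B.left M l))
    (hMn : Nontrivial (Coh.HH B.left M i)) (hNv : ∀ l, l ≠ j → Subsingleton (Coh.HH A.left N l))
    (hNn : Nontrivial (Coh.HH A.left N j)) :
    (∀ l, l ≠ i + j → Subsingleton (Coh.HH (A ⊗ B).left (boxMod M N) l)) ∧
      Nontrivial (Coh.HH (A ⊗ B).left (boxMod M N) (i + j)) := by
  letI : (A ⊗ B).left.Over (Spec (CommRingCat.of k)) := ⟨(snd A B).left ≫ B.hom⟩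
  letI : B.left.Over (Spec (CommRingCat.of k)) := ⟨B.hom⟩
  haveI : IsProper (B.left ↘ Spec (CommRingCat.of k)) := ‹IsProper B.hom›
  haveI : IsProper (snd A B).left := inferInstanceAs (IsProper (pullback.snd A.hom B.hom))
  haveI : IsProper ((A ⊗ B).left ↘ Spec (CommRingCat.of k)) :=
    inferInstanceAs (IsProper ((snd A B).left ≫ B.hom))
  haveI : IsLocallyNoetherian B.left := LocallyOfFiniteType.isLocallyNoetherian B.hom
  haveI : IsLocallyNoetherian (A ⊗ B).left := LocallyOfFiniteType.isLocallyNoetherian (snd A B).left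
  haveI : HasInjectiveResolutions (A ⊗ B).left.Modules := KFlatLib.hasInjectiveResolutions_modules
  have hMN : PicF.IsInvertible (boxMod M N) :=
    PicMul.isInvertible_tensor (PicClLib.isInvertible_pullback _ hM) (PicClLib.isInvertible_pullback _ hN)
  obtain ⟨n, hn, hR⟩ := exists_box_rank (A := A) (B := B) hM hN
  have hnq : ∀ q, q ≠ j → n q = 0 := fun q hq => (hn q).1 (hNv q hq)
  have hne : Nontrivial (Coh.HH (A ⊗ B).left (boxMod M N) (j + i)) :=
    nontrivial_of_corner k (snd A B).left rfl _ j i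
      (by rw [← not_subsingleton_iff_nontrivial, hR, not_or]
          exact ⟨fun h => not_subsingleton_iff_nontrivial.2 hNn ((hn j).2 h), not_subsingleton_iff_nontrivial.2 hMn⟩)
      (fun q hq p _ => (hR q p).2 (Or.inl (hnq q (by omega)))) (fun q hq p _ => (hR q p).2 (Or.inl (hnq q (by omega))))
  haveI : IsIntegral (A ⊗ B).left := GeometricallyIntegral.isIntegral_of_subsingleton (A ⊗ B).hom
  obtain ⟨g, hg⟩ : ∃ g : ℕ, topologicalKrullDim (A ⊗ B).left = g :=
    ⟨_, VarDim.topologicalKrullDim_eq_deg_genericPoint (A ⊗ B).hom⟩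
  obtain ⟨D, hD, ⟨u⟩⟩ := H23.PicInv.exists_inverse hMN
  have hLD : PicF.cl (boxMod M N) * PicF.cl D = 1 := by
    rw [← PicMul.cl_tensor, PicMul.one_def]; exact PicMul.cl_eq_iff.2 ⟨u⟩
  obtain ⟨l, -, hv, hl, -, -⟩ := exists_index hMN hLD hfin hg
  rw [Nat.add_comm j i] at hne
  obtain rfl : l = i + j := by
    by_contra h
    exact not_subsingleton_iff_nontrivial.2 hne (hv (i + j) (fun e => h e.symm))
  exact ⟨hv, hne⟩

/-- The matrix `[[1, a], [1, -1]]`. -/
abbrev mix (A : Over (Spec (CommRingCat.of k))) [GrpObj A] (a : ℕ) : A ⊗ A ⟶ A ⊗ A :=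
  lift (fst A A * snd A A ^ a) (fst A A * (snd A A)⁻¹)

theorem mix_comp_mix [IsCommMonObj A] (a : ℕ) : mix A a ≫ mix A a = (𝟙 (A ⊗ A) : A ⊗ A ⟶ A ⊗ A) ^ (a + 1) := by
  apply CartesianMonoidalCategory.hom_ext <;>
    simp only [mix, Category.assoc, lift_fst, lift_snd, MonObj.comp_mul, MonObj.comp_pow, GrpObj.comp_inv,
      MonObj.pow_comp, Category.id_comp, lift_fst_assoc, lift_snd_assoc]
  · rw [mul_pow, inv_pow, _root_.mul_mul_mul_comm, mul_inv_cancel, _root_.mul_one, pow_succ']
  · rw [mul_inv, _root_.inv_inv, pow_succ, _root_.mul_mul_mul_comm, mul_inv_cancel, _root_.one_mul]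

/-- **The index of tensor powers**, over an algebraically closed field. -/
theorem index_tensorPow : ∀ (a : ℕ), 1 ≤ a → ∀ {L : A.left.Modules}, PicF.IsInvertible L → (fixSet₀ L).Finite →
    ∀ j, Subsingleton (Coh.HH A.left L j) ↔ Subsingleton (Coh.HH A.left (CohB1.tensorPow L a) j) := by
  haveI : IsCommMonObj A := isCommMonObj_of_isProper_of_geometricallyIntegral A
  haveI : IsProper (A ⊗ A).hom := isProper_tensor
  haveI : GeometricallyIntegral (A ⊗ A).hom := H23.MaxAbelian.geometricallyIntegral_tensor A A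
  haveI : IsIntegral (A ⊗ A).left := GeometricallyIntegral.isIntegral_of_subsingleton (A ⊗ A).hom
  letI : A.left.Over (Spec (CommRingCat.of k)) := ⟨A.hom⟩
  haveI : IsProper (A.left ↘ Spec (CommRingCat.of k)) := ‹IsProper A.hom›
  intro a ha
  induction a, ha using Nat.le_induction with
  | base =>
    intro L hL _ j
    obtain ⟨e⟩ : Nonempty (CohB1.tensorPow L 1 ≅ L) := PicMul.cl_eq_iff.1 (by rw [PicMul.cl_tensorPow, pow_one])
    exact ⟨subsingleton_HH_congr k e.symm j, subsingleton_HH_congr k e j⟩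
  | succ a ha ih =>
    intro L hL hfin j
    let L₁ := CohB1.tensorPow L (a + 1)
    have hL₁ : PicF.IsInvertible L₁ := PicMul.isInvertible_tensorPow hL _
    have hf₁ : (fixSet₀ L₁).Finite := finite_fixSet₀_pow hL hfin _ (by omega)
    let La := CohB1.tensorPow L a
    have hLa : PicF.IsInvertible La := PicMul.isInvertible_tensorPow hL _
    have hfa : (fixSet₀ La).Finite := finite_fixSet₀_pow hL hfin _ ha
    let L₂ := CohB1.tensorPow L₁ a
    have hL₂ : PicF.IsInvertible L₂ := PicMul.isInvertible_tensorPow hL₁ _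
    have hf₂ : (fixSet₀ L₂).Finite := finite_fixSet₀_pow hL₁ hf₁ _ ha
    haveI : IsIntegral A.left := GeometricallyIntegral.isIntegral_of_subsingleton A.hom
    obtain ⟨g, hg⟩ : ∃ g : ℕ, topologicalKrullDim A.left = g :=
      ⟨_, VarDim.topologicalKrullDim_eq_deg_genericPoint A.hom⟩
    have hidx : ∀ {M : A.left.Modules}, PicF.IsInvertible M → (fixSet₀ M).Finite →
        ∃ i, (∀ l, l ≠ i → Subsingleton (Coh.HH A.left M l)) ∧ Nontrivial (Coh.HH A.left M i) := fun {M} hM hf => by
      obtain ⟨D, hD, ⟨u⟩⟩ := H23.PicInv.exists_inverse hM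
      have hLD : PicF.cl M * PicF.cl D = 1 := by
        rw [← PicMul.cl_tensor, PicMul.one_def]; exact PicMul.cl_eq_iff.2 ⟨u⟩
      obtain ⟨i, -, h1, h2, -, -⟩ := exists_index hM hLD hf hg
      exact ⟨i, h1, h2⟩
    have huniq : ∀ {M : A.left.Modules} {i i' : ℕ}, (∀ l, l ≠ i → Subsingleton (Coh.HH A.left M l)) →
        Nontrivial (Coh.HH A.left M i') → i' = i := fun hv hn =>
      not_not.1 fun h => not_subsingleton_iff_nontrivial.2 hn (hv _ h)
    obtain ⟨i, hv, hn⟩ := hidx hL hfin
    obtain ⟨i₁, hv₁, hn₁⟩ := hidx hL₁ hf₁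
    have hva : ∀ l, l ≠ i → Subsingleton (Coh.HH A.left La l) := fun l hl => (ih hL hfin l).1 (hv l hl)
    have hna : Nontrivial (Coh.HH A.left La i) := not_subsingleton_iff_nontrivial.1 fun h =>
      not_subsingleton_iff_nontrivial.2 hn ((ih hL hfin i).2 h)
    have hv₂ : ∀ l, l ≠ i₁ → Subsingleton (Coh.HH A.left L₂ l) := fun l hl => (ih hL₁ hf₁ l).1 (hv₁ l hl)
    have hn₂ : Nontrivial (Coh.HH A.left L₂ i₁) := not_subsingleton_iff_nontrivial.1 fun h =>
      not_subsingleton_iff_nontrivial.2 hn₁ ((ih hL₁ hf₁ i₁).2 h)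
    let W := boxMod La L
    let W' := boxMod L₂ L₁
    have hW : PicF.IsInvertible W :=
      PicMul.isInvertible_tensor (PicClLib.isInvertible_pullback _ hLa) (PicClLib.isInvertible_pullback _ hL)
    have hW' : PicF.IsInvertible W' :=
      PicMul.isInvertible_tensor (PicClLib.isInvertible_pullback _ hL₂) (PicClLib.isInvertible_pullback _ hL₁)
    have hfW := finite_fixSet₀_box hLa hL hfa hfin
    obtain ⟨hWv, hWn⟩ := index_box hLa hL hfW hva hna hv hn
    obtain ⟨hW'v, hW'n⟩ := index_box hL₂ hL₁ (finite_fixSet₀_box hL₂ hL₁ hf₂ hf₁) hv₂ hn₂ hv₁ hn₁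
    let α := mix A a
    haveI : IsMonHom α := AlbFormal.isMonHom_of_one α (by
      apply CartesianMonoidalCategory.hom_ext <;>
        simp [α, MonObj.one_eq_one, MonObj.comp_mul, MonObj.comp_pow, GrpObj.comp_inv, MonObj.one_comp])
    haveI : IsProper α.left := by
      haveI : IsProper (α.left ≫ (A ⊗ A).hom) := by rw [Over.w]; infer_instance
      exact IsProper.of_comp α.left (A ⊗ A).hom
    have hαα : α.left ≫ α.left = ((𝟙 (A ⊗ A) : A ⊗ A ⟶ A ⊗ A) ^ (a + 1)).left := by
      rw [← Over.comp_left, mix_comp_mix]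
    haveI : IsFinite α.left := by
      haveI : IsFinite (α.left ≫ α.left) := by rw [hαα]; exact AVMulN.isFinite_pow _ (by omega)
      exact IsFinite.of_comp α.left α.left
    haveI : Surjective α.left := by
      haveI : Surjective (α.left ≫ α.left) := by rw [hαα]; exact AVMulN.surjective_pow _ (by omega)
      exact Surjective.of_comp α.left α.left
    haveI : Flat α.left := GrpSchLib.flat_of_surjective_hom α
    have hPW : PicF.IsInvertible ((Scheme.Modules.pullback α.left).obj W) := PicClLib.isInvertible_pullback _ hW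
    have hd : ∀ c, delta hPW c = delta hW' c := fun c => by
      rw [delta_pullback α hW c, delta_box hLa hL hW, delta_box hL₂ hL₁ hW',
        show ∀ z : Pt, delta hLa z = delta hL z ^ a from fun z => delta_tensorPow hL a z,
        show ∀ z : Pt, delta hL₂ z = (delta hL z ^ (a + 1)) ^ a from fun z =>
          (delta_tensorPow hL₁ a z).trans (by rw [show delta hL₁ z = delta hL z ^ (a + 1) from delta_tensorPow hL _ z]),
        show ∀ z : Pt, delta hL₁ z = delta hL z ^ (a + 1) from fun z => delta_tensorPow hL _ z,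
        map_mul, map_pow, map_pow, map_pow, map_pow, map_pow]
      set x := c ≫ fst A A
      set y := c ≫ snd A A
      rw [show (c ≫ α) ≫ snd A A = x * y⁻¹ by simp [α, x, y, MonObj.comp_mul, GrpObj.comp_inv],
        show (c ≫ α) ≫ fst A A = x * y ^ a by simp [α, x, y, MonObj.comp_mul, MonObj.comp_pow]]
      have hd2 : ∀ (z : Pt) (f : A ⊗ A ⟶ A),
          Units.map (PicMul.pullHom α.left : PicF.Cl (A ⊗ A).left →* PicF.Cl (A ⊗ A).left)
            (Units.map (PicMul.pullHom f.left : PicF.Cl A.left →* PicF.Cl (A ⊗ A).left) (delta hL z)) =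
          Units.map (PicMul.pullHom (α ≫ f).left : PicF.Cl A.left →* PicF.Cl (A ⊗ A).left) (delta hL z) := fun z f => by
        ext
        exact pl_pl α f _
      have hadd : ∀ (z : Pt) (f f' : A ⊗ A ⟶ A),
          Units.map (PicMul.pullHom (f * f').left : PicF.Cl A.left →* PicF.Cl (A ⊗ A).left) (delta hL z) =
          Units.map (PicMul.pullHom f.left : PicF.Cl A.left →* PicF.Cl (A ⊗ A).left) (delta hL z) *
            Units.map (PicMul.pullHom f'.left : PicF.Cl A.left →* PicF.Cl (A ⊗ A).left) (delta hL z) := fun z f f' => by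
        ext
        exact (isAdditive_delta hL z).apply f f'
      have hpow : ∀ (z : Pt) (f : A ⊗ A ⟶ A),
          Units.map (PicMul.pullHom (f ^ a).left : PicF.Cl A.left →* PicF.Cl (A ⊗ A).left) (delta hL z) =
          Units.map (PicMul.pullHom f.left : PicF.Cl A.left →* PicF.Cl (A ⊗ A).left) (delta hL z) ^ a := fun z f => by
        ext
        exact pl_pow_of_additive (isAdditive_delta hL z) f a ha
      have hinv : ∀ (z : Pt) (f : A ⊗ A ⟶ A),
          Units.map (PicMul.pullHom (f⁻¹).left : PicF.Cl A.left →* PicF.Cl (A ⊗ A).left) (delta hL z) =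
          (Units.map (PicMul.pullHom f.left : PicF.Cl A.left →* PicF.Cl (A ⊗ A).left) (delta hL z))⁻¹ := fun z f => by
        rw [eq_inv_iff_mul_eq_one, ← hadd, inv_mul_cancel, delta, map_div, pull_pc, pull_pc, Category.comp_id]
        rw [show (1 : A ⊗ A ⟶ A) = toUnit _ ≫ η[A] from Hom.one_def, Category.assoc, AVTheta8.pc_const hL,
          AVTheta8.pc_const hL, div_self']
      have hzmul : ∀ z z' : Pt, delta hL (z * z') = delta hL z * delta hL z' := delta_mul hL
      have hzinv : ∀ z : Pt, delta hL z⁻¹ = (delta hL z)⁻¹ := fun z => by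
        rw [eq_inv_iff_mul_eq_one, ← hzmul, inv_mul_cancel]
        exact (pow_zero (1 : Pt)) ▸ (delta_pow hL (1 : Pt) 0).trans (pow_zero _)
      rw [hd2, hd2, show α ≫ snd A A = fst A A * (snd A A)⁻¹ from lift_snd _ _,
        show α ≫ fst A A = fst A A * snd A A ^ a from lift_fst _ _, hadd, hadd, hinv, hpow]
      simp only [hzmul, hzinv, delta_pow, map_mul, map_inv, map_pow, mul_pow, inv_pow, _root_.inv_inv, mul_inv,
        ← pow_mul, pow_add, pow_one, Nat.add_mul, Nat.one_mul]
      apply Additive.ofMul.injective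
      simp only [ofMul_mul, ofMul_pow, ofMul_inv]
      module
    have key : i₁ + i₁ = i + i := not_not.1 fun h => not_subsingleton_iff_nontrivial.2 hW'n
      ((subsingleton_iff_of_delta hPW hW' (finite_fixSet₀_pull α hW hfW) hd _).1
        ((index_pull α hW hfW _).1 (hWv _ h)))
    obtain rfl : i₁ = i := by omega
    by_cases hj : j = i₁
    · subst hj
      exact ⟨fun h => absurd h (not_subsingleton_iff_nontrivial.2 hn),
        fun h => absurd h (not_subsingleton_iff_nontrivial.2 hn₁)⟩
    · exact ⟨fun _ => hv₁ j hj, fun _ => hv j hj⟩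

section AnyField

variable {k : Type u} [Field k] {X : Over (Spec (CommRingCat.of k))} [GrpObj X] [IsProper X.hom]
  [GeometricallyIntegral X.hom] {L : X.left.Modules}

/-- **The index of tensor powers**, over any field. -/
theorem concentrated_tensorPow (hL : PicF.IsInvertible L) {i : ℕ}
    (hvan : ∀ j, j ≠ i → Subsingleton (Coh.HH X.left L j)) (hne : Nontrivial (Coh.HH X.left L i)) (m : ℕ) (hm : 1 ≤ m) :
    (∀ j, j ≠ i → Subsingleton (Coh.HH X.left (CohB1.tensorPow L m) j)) ∧
      Nontrivial (Coh.HH X.left (CohB1.tensorPow L m) i) := by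
  let t := clMap k
  haveI : IsProper (Red.bc t X).hom := (BcComp.isAV_bc t X).1
  haveI : GeometricallyIntegral (Red.bc t X).hom := (BcComp.isAV_bc t X).2
  let Lb := (Scheme.Modules.pullback (prj t X)).obj L
  have hLb : PicF.IsInvertible Lb := PicClLib.isInvertible_pullback _ hL
  have hLm : PicF.IsInvertible (CohB1.tensorPow L m) := PicMul.isInvertible_tensorPow hL m
  letI : (Red.bc t X).left.Over (Spec (CommRingCat.of (AlgebraicClosure k))) := ⟨(Red.bc t X).hom⟩
  haveI : IsProper ((Red.bc t X).left ↘ Spec (CommRingCat.of (AlgebraicClosure k))) := ‹IsProper (Red.bc t X).hom›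
  have hfin : (fixSet₀ Lb).Finite := finite_fixSet_of_concentrated hLb
    (fun j hj => (subsingleton_HH_bar_iff hL j).2 (hvan j hj))
    (not_subsingleton_iff_nontrivial.1 fun h => not_subsingleton_iff_nontrivial.2 hne ((subsingleton_HH_bar_iff hL i).1 h))
  obtain ⟨e⟩ : Nonempty (CohB1.tensorPow Lb m ≅ (Scheme.Modules.pullback (prj t X)).obj (CohB1.tensorPow L m)) :=
    PicMul.cl_eq_iff.1 (by
      show _ = PicF.pullCl (prj t X) (PicF.cl (CohB1.tensorPow L m))
      rw [PicMul.cl_tensorPow, PicMul.cl_tensorPow, PicMul.pullCl_pow]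
      rfl)
  have key : ∀ j, Subsingleton (Coh.HH X.left (CohB1.tensorPow L m) j) ↔ Subsingleton (Coh.HH X.left L j) := fun j => by
    rw [← subsingleton_HH_bar_iff hLm j, ← subsingleton_HH_bar_iff hL j, index_tensorPow m hm hLb hfin j]
    exact ⟨subsingleton_HH_congr (AlgebraicClosure k) e.symm j, subsingleton_HH_congr (AlgebraicClosure k) e j⟩
  exact ⟨fun j hj => (key j).2 (hvan j hj),
    not_subsingleton_iff_nontrivial.1 fun h => not_subsingleton_iff_nontrivial.2 hne ((key i).1 h)⟩

end AnyField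

end Groth.Agent.AVIndex
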